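import Mathlib.GroupTheory.Subgroup.Center
import Mathlib.GroupTheory.OrderOfElement
import Mathlib.Tactic.Group

/-!
Identities in a group for elements that commute up to central elements, used to normalise lifts.
-/

set_option autoImplicit false

namespace Cfsg.Agent.ThMult

variable {G : Type*} [Group G]

/-- The element commutes with everything. -/
def Cen (z : G) : Prop := ∀ g : G, Commute z g

namespace Cen

variable {z w : G}

theorem one : Cen (1 : G) := Commute.one_left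

theorem mul (hz : Cen z) (hw : Cen w) : Cen (z * w) := fun g => (hz g).mul_left (hw g)

theorem inv (hz : Cen z) : Cen z⁻¹ := fun g => (hz g).inv_left

theorem pow (hz : Cen z) (n : ℕ) : Cen (z ^ n) := fun g => (hz g).pow_left n

/-- Conjugation fixes a central element. -/
theorem conj (hz : Cen z) (g : G) : g⁻¹ * z * g = z := by
  rw [mul_assoc, (hz g).eq, inv_mul_cancel_left]

/-- A central factor does not matter for conjugation. -/
theorem conj_by (hz : Cen z) (x g : G) : (g * z)⁻¹ * x * (g * z) = g⁻¹ * x * g := by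
  rw [mul_inv_rev]
  calc z⁻¹ * g⁻¹ * x * (g * z) = z⁻¹ * (g⁻¹ * x * g) * z := by group
    _ = _ := by rw [mul_assoc, ← (hz _).eq, inv_mul_cancel_left]

/-- A central factor comes out of a power. -/
theorem mul_pow (hz : Cen z) (x : G) (n : ℕ) : (x * z) ^ n = x ^ n * z ^ n :=
  Commute.mul_pow (hz x).symm n

/-- A central factor moves to the right. -/
theorem mul_right_comm (hz : Cen z) (x y : G) : x * z * y = x * y * z := by
  rw [mul_assoc, (hz y).eq, mul_assoc]

end Cen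

/-- A conjugate that differs by a central factor: the factor dies in the exponent making the element central. -/
theorem pow_eq_one_of_conj {x g k : G} {n : ℕ} (hk : Cen k) (h : g⁻¹ * x * g = x * k) (hx : Cen (x ^ n)) :
    k ^ n = 1 := by
  have e : (g⁻¹ * x * g) ^ n = g⁻¹ * x ^ n * g := by
    have := conj_pow (i := n) (a := g⁻¹) (b := x)
    rwa [inv_inv] at this
  rw [h, hk.mul_pow, hx.conj] at e
  exact mul_left_cancel (e.trans (mul_one _).symm)

theorem eq_one_of_pow {k : G} {m n : ℕ} (hm : k ^ m = 1) (hn : k ^ n = 1) (h : Nat.Coprime m n) : k = 1 := by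
  have := pow_gcd_eq_one.2 ⟨hm, hn⟩
  rwa [Nat.Coprime.gcd_eq_one h, pow_one] at this

/-- Two elements commuting up to a central element commute, if central powers of coprime exponents exist. -/
theorem commute_of_coprime {x y : G} {m n : ℕ} (hk : Cen (x⁻¹ * y⁻¹ * x * y)) (hx : Cen (x ^ m))
    (hy : Cen (y ^ n)) (h : Nat.Coprime m n) : Commute x y := by
  have e1 := pow_eq_one_of_conj (g := y) hk (by group) hx
  have e2 := pow_eq_one_of_conj (x := y) (g := x) hk.inv (by group) hy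
  rw [inv_pow, inv_eq_one] at e2
  have e := eq_one_of_pow e1 e2 h
  show x * y = y * x
  calc x * y = y * x * (x⁻¹ * y⁻¹ * x * y) := by group
    _ = y * x := by rw [e, mul_one]

/-- Commuting with one end of a braid gives commuting with the other end. -/
theorem commute_of_braid {x d e : G} (hk : Cen (d⁻¹ * x⁻¹ * d * x)) (hxe : Commute x e) (hd : Cen (d ^ 2))
    (hde : Cen ((d * e) ^ 3)) : Commute x d := by
  have h : x⁻¹ * d * x = d * (d⁻¹ * x⁻¹ * d * x) := by group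
  have he : x⁻¹ * (d * e) * x = d * e * (d⁻¹ * x⁻¹ * d * x) := by
    calc x⁻¹ * (d * e) * x = x⁻¹ * d * (e * x) := by group
      _ = x⁻¹ * d * x * e := by rw [← hxe.eq]; group
      _ = _ := by rw [h, hk.mul_right_comm]
  have e3 := pow_eq_one_of_conj hk he hde
  have e2 := pow_eq_one_of_conj hk h hd
  have e := eq_one_of_pow e3 e2 (by decide)
  show x * d = d * x
  calc x * d = x * d * (d⁻¹ * x⁻¹ * d * x) := by rw [e, mul_one]
    _ = d * x := by group

/-- Squares and cube of a product of two elements with central squares. -/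
theorem braid_sq {x y : G} (hx : Cen (x * x)) (hy : Cen (y * y)) (hω : Cen ((x * y) ^ 3)) :
    ((x * y) ^ 3) ^ 2 = (x * x) ^ 3 * (y * y) ^ 3 := by
  obtain ⟨α, hα⟩ : ∃ α, α = x * x := ⟨_, rfl⟩
  obtain ⟨β, hβ⟩ : ∃ β, β = y * y := ⟨_, rfl⟩
  obtain ⟨ω, hw⟩ : ∃ ω, ω = (x * y) ^ 3 := ⟨_, rfl⟩
  rw [← hα, ← hβ, ← hw]
  rw [← hα] at hx
  rw [← hβ] at hy
  rw [← hw] at hω
  have hyxy : y * x * y = x⁻¹ * y⁻¹ * x⁻¹ * ω := by
    rw [hw, pow_succ, pow_two]; group
  have lhs : (y * x * y) * (y * x * y) = α * (β * β) := by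
    calc (y * x * y) * (y * x * y) = y * x * β * x * y := by rw [hβ]; group
      _ = y * (x * x) * (y * β) := by rw [hy.mul_right_comm, hy.mul_right_comm]; group
      _ = α * (β * β) := by rw [← hα, ← (hx y).eq, hβ]; group
  have rhs : (x⁻¹ * y⁻¹ * x⁻¹) * (x⁻¹ * y⁻¹ * x⁻¹) = α⁻¹ * α⁻¹ * β⁻¹ := by
    calc (x⁻¹ * y⁻¹ * x⁻¹) * (x⁻¹ * y⁻¹ * x⁻¹) = x⁻¹ * (y⁻¹ * α⁻¹ * y⁻¹) * x⁻¹ := by rw [hα]; group
      _ = x⁻¹ * β⁻¹ * α⁻¹ * x⁻¹ := by rw [hx.inv.mul_right_comm, hβ]; group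
      _ = x⁻¹ * x⁻¹ * β⁻¹ * α⁻¹ := by rw [hx.inv.mul_right_comm, hy.inv.mul_right_comm]
      _ = α⁻¹ * β⁻¹ * α⁻¹ := by rw [hα]; group
      _ = α⁻¹ * α⁻¹ * β⁻¹ := by rw [mul_assoc, (hy.inv α⁻¹).eq, ← mul_assoc]
  have key : α * (β * β) = α⁻¹ * α⁻¹ * β⁻¹ * (ω * ω) := by
    rw [← lhs, hyxy, ← rhs]
    calc x⁻¹ * y⁻¹ * x⁻¹ * ω * (x⁻¹ * y⁻¹ * x⁻¹ * ω)
        = x⁻¹ * y⁻¹ * x⁻¹ * (ω * (x⁻¹ * y⁻¹ * x⁻¹)) * ω := by group
      _ = _ := by rw [(hω _).eq]; group
  calc ω ^ 2 = β * α * α * (α⁻¹ * α⁻¹ * β⁻¹ * (ω * ω)) := by rw [pow_two]; group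
    _ = β * α * α * (α * (β * β)) := by rw [key]
    _ = β * α ^ 3 * (β * β) := by simp only [pow_succ, pow_zero, one_mul, mul_assoc]
    _ = α ^ 3 * β ^ 3 := by
      rw [(hy (α ^ 3)).eq]
      simp only [pow_succ, pow_zero, one_mul, mul_assoc]

end Cfsg.Agent.ThMult
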