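import Cfsg.Agent.Lib.ThMult.Central
import Mathlib.Tactic.LinearCombination
import Mathlib.Tactic.Module

/-!
Central factors that normalise two linked central constants.
-/

set_option autoImplicit false

namespace Cfsg.Agent.ThMult

variable {G : Type*} [Group G]

/-- Equalities in the centre from equalities in an additive commutative group. -/
theorem Cen.mem {z : G} (h : Cen z) : z ∈ Subgroup.center G :=
  Subgroup.mem_center_iff.2 fun g => (h g).eq.symm

theorem Cen.of_mem {z : G} (h : z ∈ Subgroup.center G) : Cen z := fun g => (Subgroup.mem_center_iff.1 h g).symm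

/-- The centre as a commutative group. -/
@[reducible] def centreCommGroup : CommGroup (Subgroup.center G) :=
  { (inferInstance : Group (Subgroup.center G)) with
    mul_comm := fun a b => Subtype.ext ((Subgroup.mem_center_iff.1 b.2 a).trans rfl) }

attribute [local instance] centreCommGroup

/-- An element of the centre as an additive element. -/
abbrev Cen.add {z : G} (h : Cen z) : Additive (Subgroup.center G) := Additive.ofMul ⟨z, h.mem⟩

theorem add_scale_pair {M : Type*} [AddCommGroup M] {x w : M} (h : (2 : ℕ) • w = (3 : ℕ) • x) :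
    x + (2 : ℕ) • (x - w) = 0 ∧ w + (3 : ℕ) • (x - w) = 0 := by
  constructor
  · linear_combination (norm := module) (-1 : ℤ) • h
  · linear_combination (norm := module) (-1 : ℤ) • h

theorem add_scale_seven {M : Type*} [AddCommGroup M] {x d : M} (h : (2 : ℕ) • x = (7 : ℕ) • d) :
    x + (7 : ℕ) • (x - (4 : ℕ) • d) = 0 ∧ d + (2 : ℕ) • (x - (4 : ℕ) • d) = 0 := by
  constructor
  · linear_combination (norm := module) (4 : ℤ) • h
  · linear_combination (norm := module) h

theorem add_scale_to {M : Type*} [AddCommGroup M] {a b w : M} (h : (2 : ℕ) • w = (3 : ℕ) • a + (3 : ℕ) • b) :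
    b + (2 : ℕ) • (w - a - (2 : ℕ) • b) = a ∧ w + (3 : ℕ) • (w - a - (2 : ℕ) • b) = (3 : ℕ) • a := by
  constructor
  · linear_combination (norm := module) h
  · linear_combination (norm := module) (2 : ℤ) • h

/-- From `w² = x³`: a factor killing both. -/
theorem exists_scale_pair {x w : G} (hx : Cen x) (hw : Cen w) (h : w ^ 2 = x ^ 3) :
    ∃ k, Cen k ∧ x * k ^ 2 = 1 ∧ w * k ^ 3 = 1 := by
  have h' : (2 : ℕ) • hw.add = (3 : ℕ) • hx.add := congrArg Additive.ofMul (Subtype.ext h)
  obtain ⟨e1, e2⟩ := add_scale_pair (M := Additive (Subgroup.center G)) h'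
  refine ⟨((hx.add - hw.add).toMul : Subgroup.center G), Cen.of_mem (SetLike.coe_mem _), ?_, ?_⟩
  · exact congrArg (fun z : Additive (Subgroup.center G) => ((z.toMul : Subgroup.center G) : G)) e1
  · exact congrArg (fun z : Additive (Subgroup.center G) => ((z.toMul : Subgroup.center G) : G)) e2

/-- From `x² = d⁷`: a factor killing both. -/
theorem exists_scale_seven {x d : G} (hx : Cen x) (hd : Cen d) (h : x ^ 2 = d ^ 7) :
    ∃ k, Cen k ∧ x * k ^ 7 = 1 ∧ d * k ^ 2 = 1 := by
  have h' : (2 : ℕ) • hx.add = (7 : ℕ) • hd.add := congrArg Additive.ofMul (Subtype.ext h)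
  obtain ⟨e1, e2⟩ := add_scale_seven (M := Additive (Subgroup.center G)) h'
  refine ⟨((hx.add - (4 : ℕ) • hd.add).toMul : Subgroup.center G), Cen.of_mem (SetLike.coe_mem _), ?_, ?_⟩
  · exact congrArg (fun z : Additive (Subgroup.center G) => ((z.toMul : Subgroup.center G) : G)) e1
  · exact congrArg (fun z : Additive (Subgroup.center G) => ((z.toMul : Subgroup.center G) : G)) e2

/-- From `w² = a³ b³`: a factor making `b` equal to `a` and `w` equal to `a³`. -/
theorem exists_scale_to {a b w : G} (ha : Cen a) (hb : Cen b) (hw : Cen w) (h : w ^ 2 = a ^ 3 * b ^ 3) :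
    ∃ k, Cen k ∧ b * k ^ 2 = a ∧ w * k ^ 3 = a ^ 3 := by
  have h' : (2 : ℕ) • hw.add = (3 : ℕ) • ha.add + (3 : ℕ) • hb.add := congrArg Additive.ofMul (Subtype.ext h)
  obtain ⟨e1, e2⟩ := add_scale_to (M := Additive (Subgroup.center G)) h'
  refine ⟨((hw.add - ha.add - (2 : ℕ) • hb.add).toMul : Subgroup.center G), Cen.of_mem (SetLike.coe_mem _),
    ?_, ?_⟩
  · exact congrArg (fun z : Additive (Subgroup.center G) => ((z.toMul : Subgroup.center G) : G)) e1
  · exact congrArg (fun z : Additive (Subgroup.center G) => ((z.toMul : Subgroup.center G) : G)) e2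

/-- A factor making two constants of a square and a cube equal. -/
theorem exists_scale_eq {x w : G} (hx : Cen x) (hw : Cen w) :
    ∃ k, Cen k ∧ x * k ^ 2 = w * k ^ 3 := by
  refine ⟨x * w⁻¹, hx.mul hw.inv, ?_⟩
  have h1 : Commute x w⁻¹ := hx _
  rw [h1.mul_pow, h1.mul_pow]
  calc x * (x ^ 2 * w⁻¹ ^ 2) = x ^ 3 * w⁻¹ ^ 2 := by group
    _ = w * (x ^ 3 * w⁻¹ ^ 3) := by rw [← mul_assoc, ← ((hx.pow 3) w).eq]; group

end Cfsg.Agent.ThMult
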