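import Cfsg.Agent.Lib.ThMult.Relations
import Cfsg.Agent.Lib.ThMult.Scale
import Cfsg.Agent.Lib.ThMult.PTableCheck

/-!
Normalised lifts of `d, e, s` in a central extension of the presented Thompson group.
-/

set_option autoImplicit false
set_option maxRecDepth 100000

namespace Cfsg.Agent.ThMult

open Cfsg.Agent.HN Cfsg.Spor

noncomputable section

/-- The data of a central extension. -/
structure Ext {Γ : Type*} [Group Γ] (σ : Γ →* Cfsg.Spor.Th) : Prop where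
  surj : Function.Surjective σ
  cen : ∀ z, σ z = 1 → Cen z
  inj : Function.Injective psiH

variable {Γ : Type*} [Group Γ] {σ : Γ →* Cfsg.Spor.Th}

/-- Words in the group of `a, b, c, d, e, s, t` acting differently are different in the presented group. -/
theorem Ext.ne (X : Ext σ) {u v : List ℕ} (hu : letOK Th.pts.k u = true) (hv : letOK Th.pts.k v = true) {q : ℕ}
    (hq : q < Th.pts.n) (h : Nat.beq (Th.pts.actW u q) (Th.pts.actW v q) = false) :
    psiH (wv Th.g9 u) ≠ psiH (wv Th.g9 v) := by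
  intro e
  have e' := congrArg Th.rep (X.inj e)
  rw [Th.rep_wv, Th.rep_wv] at e'
  have h1 := wv_sig_inv_apply Th.pts_ok u (letOK_spec hu) ⟨q, hq⟩
  rw [e', wv_sig_inv_apply Th.pts_ok v (letOK_spec hv)] at h1
  rw [h1, Nat.beq_refl] at h
  exact Bool.noConfusion h

/-- The square of a normalised lift of `e` is trivial. -/
theorem sq_lift_e (X : Ext σ) {E S : Γ} (hE : σ E = gTh .e) (hS : σ S = gTh .s) (S7 : S ^ 7 = 1)
    (ES : E⁻¹ * S⁻¹ * E * S = (S ^ 3)⁻¹ * E * S ^ 3) : E * E = 1 := by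
  obtain ⟨z, hz⟩ : ∃ z, z = E * E := ⟨_, rfl⟩
  have hz1 : σ z = 1 := by
    rw [hz, map_mul, hE, ← pow_two]
    exact rel_th.1.ee
  have hc := X.cen z hz1
  let g : ℕ → Γ := fun l => [E, E⁻¹, S, S⁻¹, z, z⁻¹].getD l 1
  have R : TC.Rules PTable.cert g (Subgroup.zpowers S) := by
    refine ⟨fun l => ?_, ?_, ?_⟩
    · match l with
      | 0 | 1 | 2 | 3 | 4 | 5 => simp [g, PTable.cert, PTable.ivl]
      | _ + 6 => simp [g, PTable.cert, PTable.ivl]
    · simp only [PTable.cert, List.forall_mem_cons, List.not_mem_nil, IsEmpty.forall_iff, forall_const,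
        and_true, wv, g, List.getD_cons_succ, List.getD_cons_zero, mul_one]
      refine ⟨?_, ?_, ?_, ?_, ?_⟩
      · rw [← S7]; simp [pow_succ, mul_assoc]
      · calc _ = (E⁻¹ * S⁻¹ * E * S) * ((S ^ 3)⁻¹ * E * S ^ 3)⁻¹ := by simp [pow_succ, mul_assoc]
          _ = 1 := by rw [ES, mul_inv_cancel]
      · rw [hz]; group
      · rw [← mul_assoc, ← mul_assoc, ← mul_inv_rev, (hc E).symm.eq, mul_inv_rev]; group
      · rw [← mul_assoc, ← mul_assoc, ← mul_inv_rev, (hc S).symm.eq, mul_inv_rev]; group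
    · simp only [PTable.cert, List.forall_mem_cons, List.not_mem_nil, IsEmpty.forall_iff, forall_const,
        and_true, wv, g, List.getD_cons_succ, List.getD_cons_zero, mul_one]
      exact Subgroup.mem_zpowers S
  have hm := TC.trace_mem R (TC.all_good R PTable.ok_all) PTable.trace0
  obtain ⟨i, hi⟩ := Subgroup.mem_zpowers_iff.1 (show z ∈ Subgroup.zpowers S by simpa [wv, g] using hm)
  have hs1 : gTh Th.Gen.s ≠ 1 := by
    have := X.ne (u := [5]) (v := []) (q := 5) (by decide +kernel) (by decide +kernel) (by decide +kernel)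
      (by decide +kernel)
    simpa [psiH, homH_g9, wv, lets9] using this
  have ho : orderOf (gTh Th.Gen.s) = 7 := orderOf_eq_prime (hp := ⟨by norm_num⟩) rel_th.1.ss hs1
  have h0 : gTh Th.Gen.s ^ i = 1 := by rw [← hS, ← map_zpow, hi, hz1]
  obtain ⟨j, rfl⟩ : (7 : ℤ) ∣ i := by
    have := orderOf_dvd_iff_zpow_eq_one.2 h0
    rwa [ho] at this
  rw [← hz, ← hi, zpow_mul, zpow_ofNat, S7, one_zpow]

/-- Normalised lifts of `d, e, s`. -/
theorem exists_lift_des (X : Ext σ) : ∃ D E S : Γ, σ D = gTh .d ∧ σ E = gTh .e ∧ σ S = gTh .s ∧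
    D * D = 1 ∧ E * E = 1 ∧ (D * E) ^ 3 = 1 ∧ S ^ 7 = 1 ∧ D * S * D⁻¹ = S⁻¹ ∧
    E⁻¹ * S⁻¹ * E * S = (S ^ 3)⁻¹ * E * S ^ 3 := by
  obtain ⟨R, -⟩ := rel_th
  obtain ⟨D0, hD0⟩ := X.surj (gTh .d)
  obtain ⟨E0, hE0⟩ := X.surj (gTh .e)
  obtain ⟨S0, hS0⟩ := X.surj (gTh .s)
  have di : (gTh Th.Gen.d)⁻¹ = gTh .d := inv_eq_of_mul_eq_one_right (by rw [← pow_two]; exact R.dd)
  obtain ⟨δ, hδ⟩ : ∃ δ, δ = D0 * S0 * D0⁻¹ * S0 := ⟨_, rfl⟩
  have δc : Cen δ := X.cen _ (by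
    rw [hδ]; simp only [map_mul, map_inv, hD0, hS0, di]
    calc gTh Th.Gen.d * gTh .s * gTh .d * gTh .s = gTh .d * (gTh .s * gTh .d * (gTh .s * gTh .d)) * (gTh .d)⁻¹ := by
          group
      _ = 1 := by rw [← pow_two, R.sd]; group)
  obtain ⟨x, hx⟩ : ∃ x, x = S0 ^ 7 := ⟨_, rfl⟩
  have xc : Cen x := X.cen _ (by rw [hx, map_pow, hS0, R.ss])
  have hxd : x ^ 2 = δ ^ 7 := by
    have h := conj_pow (i := 7) (a := D0) (b := S0)
    rw [show D0 * S0 * D0⁻¹ = S0⁻¹ * δ by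
      rw [← (δc _).eq, hδ]; group, δc.mul_pow, inv_pow, ← hx, mul_assoc, (xc _).eq, mul_inv_cancel_left] at h
    calc x ^ 2 = x * (x⁻¹ * δ ^ 7) := by rw [h, pow_two]
      _ = _ := mul_inv_cancel_left _ _
  obtain ⟨k, kc, k7, k2⟩ := exists_scale_seven xc δc hxd
  obtain ⟨S, hSd⟩ : ∃ S, S = S0 * k := ⟨_, rfl⟩
  have sk : σ k = 1 := by
    have h7 : σ k ^ 7 = 1 := by
      have := congrArg σ k7
      rwa [map_mul, map_pow, map_one, hx, map_pow, hS0, R.ss, one_mul] at this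
    have h2 : σ k ^ 2 = 1 := by
      have := congrArg σ k2
      rw [map_mul, map_pow, map_one, show σ δ = 1 from ?_, one_mul] at this
      · exact this
      · rw [hδ]; simp only [map_mul, map_inv, hD0, hS0, di]
        calc gTh Th.Gen.d * gTh .s * gTh .d * gTh .s
            = gTh .d * (gTh .s * gTh .d * (gTh .s * gTh .d)) * (gTh .d)⁻¹ := by group
          _ = 1 := by rw [← pow_two, R.sd]; group
    exact eq_one_of_pow h7 h2 (by decide)
  have hS : σ S = gTh .s := by rw [hSd, map_mul, hS0, sk, mul_one]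
  have S7 : S ^ 7 = 1 := by rw [hSd, kc.mul_pow, ← hx, k7]
  have DS0 : D0 * S * D0⁻¹ * S = 1 := by
    calc D0 * S * D0⁻¹ * S = D0 * S0 * k * (D0⁻¹ * S0) * k := by rw [hSd]; group
      _ = δ * k ^ 2 := by rw [kc.mul_right_comm, hδ, pow_two]; group
      _ = 1 := k2
  obtain ⟨l, hl⟩ : ∃ l, l = (E0⁻¹ * S⁻¹ * E0 * S) * ((S ^ 3)⁻¹ * E0 * S ^ 3)⁻¹ := ⟨_, rfl⟩
  have σl : σ l = 1 := by rw [hl]; simp only [map_mul, map_inv, map_pow, hS, hE0]; exact R.es
  have lc : Cen l := X.cen _ σl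
  obtain ⟨E, hEd⟩ : ∃ E, E = E0 * l := ⟨_, rfl⟩
  have hE : σ E = gTh .e := by rw [hEd, map_mul, hE0, σl, mul_one]
  have ES : E⁻¹ * S⁻¹ * E * S = (S ^ 3)⁻¹ * E * S ^ 3 := by
    calc E⁻¹ * S⁻¹ * E * S = ((E0 * l)⁻¹ * S⁻¹ * (E0 * l)) * S := by rw [hEd]
      _ = E0⁻¹ * S⁻¹ * E0 * S := by rw [lc.conj_by]
      _ = l * ((S ^ 3)⁻¹ * E0 * S ^ 3) := by rw [hl, inv_mul_cancel_right]
      _ = (S ^ 3)⁻¹ * E0 * S ^ 3 * l := (lc _).eq
      _ = (S ^ 3)⁻¹ * E * S ^ 3 := by rw [hEd, ← mul_assoc, lc.mul_right_comm]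
  have EE := sq_lift_e X hE hS S7 ES
  have dc : Cen (D0 * D0) := X.cen _ (by rw [map_mul, hD0, ← pow_two, R.dd])
  have wc : Cen ((D0 * E) ^ 3) := X.cen _ (by rw [map_pow, map_mul, hD0, hE, R.de])
  have hw := braid_sq dc (by rw [EE]; exact Cen.one) wc
  rw [EE, one_pow, mul_one] at hw
  obtain ⟨m, mc, m2, m3⟩ := exists_scale_pair dc wc hw
  have sm : σ m = 1 := by
    have h2 := congrArg σ m2
    rw [map_mul, map_one, map_mul, hD0, ← pow_two, R.dd, one_mul, map_pow] at h2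
    have h3 := congrArg σ m3
    rw [map_mul, map_one, map_pow, map_mul, hD0, hE, R.de, one_mul, map_pow] at h3
    exact eq_one_of_pow h2 h3 (by decide)
  refine ⟨D0 * m, E, S, by rw [map_mul, hD0, sm, mul_one], hE, hS, ?_, EE, ?_, S7, ?_, ES⟩
  · rw [← pow_two, mc.mul_pow, pow_two D0, m2]
  · rw [mc.mul_right_comm, mc.mul_pow, m3]
  · calc D0 * m * S * (D0 * m)⁻¹ = D0 * (m * S * m⁻¹) * D0⁻¹ := by group
      _ = D0 * S * D0⁻¹ := by rw [(mc S).eq, mul_inv_cancel_right]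
      _ = S⁻¹ := eq_inv_of_mul_eq_one_left DS0

end

end Cfsg.Agent.ThMult
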