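import Cfsg.Agent.Lib.ThMult.LiftE
import Cfsg.Agent.Lib.ThMult.NTableCheck

/-!
Normalised lifts of `a, b, c, d, e, s, t` in a central extension of the presented Thompson group.
-/

set_option autoImplicit false
set_option maxRecDepth 100000

namespace Cfsg.Agent.ThMult

open Cfsg.Agent.HN Cfsg.Spor

noncomputable section

variable {Γ : Type*} [Group Γ] {σ : Γ →* Cfsg.Spor.Th}

/-- An element commuting with a lift of `s` commutes with the lift of `e` if their images commute. -/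
theorem commute_of_es {X E S : Γ} (hXS : Commute X S) (hk : Cen (E⁻¹ * X⁻¹ * E * X))
    (ES : E⁻¹ * S⁻¹ * E * S = (S ^ 3)⁻¹ * E * S ^ 3) : Commute X E := by
  obtain ⟨k, hk'⟩ : ∃ k, k = E⁻¹ * X⁻¹ * E * X := ⟨_, rfl⟩
  rw [← hk'] at hk
  have hE : X⁻¹ * E * X = E * k := by rw [hk']; group
  have hSi : X⁻¹ * S⁻¹ * X = S⁻¹ := by rw [mul_assoc, ← hXS.inv_right.eq, inv_mul_cancel_left]
  have hS : X⁻¹ * S * X = S := by rw [mul_assoc, ← hXS.eq, inv_mul_cancel_left]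
  have hS3 : X⁻¹ * S ^ 3 * X = S ^ 3 := by rw [mul_assoc, ← (hXS.pow_right 3).eq, inv_mul_cancel_left]
  have hS3i : X⁻¹ * (S ^ 3)⁻¹ * X = (S ^ 3)⁻¹ := by
    rw [mul_assoc, ← (hXS.pow_right 3).inv_right.eq, inv_mul_cancel_left]
  have l : X⁻¹ * (E⁻¹ * S⁻¹ * E * S) * X = E⁻¹ * S⁻¹ * E * S := by
    calc X⁻¹ * (E⁻¹ * S⁻¹ * E * S) * X
        = (X⁻¹ * E * X)⁻¹ * (X⁻¹ * S⁻¹ * X) * (X⁻¹ * E * X) * (X⁻¹ * S * X) := by group
      _ = (E * k)⁻¹ * S⁻¹ * (E * k) * S := by rw [hE, hSi, hS]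
      _ = _ := by rw [hk.conj_by]
  have r : X⁻¹ * ((S ^ 3)⁻¹ * E * S ^ 3) * X = (S ^ 3)⁻¹ * E * S ^ 3 * k := by
    calc X⁻¹ * ((S ^ 3)⁻¹ * E * S ^ 3) * X
        = (X⁻¹ * (S ^ 3)⁻¹ * X) * (X⁻¹ * E * X) * (X⁻¹ * S ^ 3 * X) := by group
      _ = _ := by rw [hS3i, hE, hS3, ← mul_assoc, hk.mul_right_comm]
  rw [ES, r] at l
  have k1 : k = 1 := mul_left_cancel (l.trans (mul_one _).symm)
  rw [k1, mul_one] at hE
  show X * E = E * X
  conv_lhs => rw [← hE]
  group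

/-- Two involutions with a product of order dividing two commute. -/
theorem comm_of_sq {G : Type*} [Group G] {x y : G} (hx : x ^ 2 = 1) (hy : y ^ 2 = 1) (h : (x * y) ^ 2 = 1) :
    y⁻¹ * x⁻¹ * y * x = 1 := by
  have xi : x⁻¹ = x := inv_eq_of_mul_eq_one_right (by rwa [← pow_two])
  have yi : y⁻¹ = y := inv_eq_of_mul_eq_one_right (by rwa [← pow_two])
  rw [xi, yi]
  calc y * x * y * x = y * (x * y * (x * y)) * y⁻¹ := by group
    _ = 1 := by rw [← pow_two, h]; group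

/-- The eighth power of the product of the lifts of `b, c, d, e` is trivial. -/
theorem nu_lift (X : Ext σ) {A B C D E : Γ} (hB : σ B = gTh .b) (hC : σ C = gTh .c) (hD : σ D = gTh .d)
    (hE : σ E = gTh .e) (AA : A * A = 1) (BB : B * B = 1) (CC : C * C = 1) (DD : D * D = 1) (EE : E * E = 1)
    (ab : (A * B) ^ 3 = 1) (ae : Commute A E) (bc : (B * C) ^ 3 = 1) (bd : Commute B D) (be : Commute B E)
    (acd : (C * D) ^ 4 = A) (ce : Commute C E) (de : (D * E) ^ 3 = 1) : (B * C * D * E) ^ 8 = 1 := by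
  obtain ⟨z, hz⟩ : ∃ z, z = ((B * C * D * E) ^ 8)⁻¹ := ⟨_, rfl⟩
  have hz1 : σ z = 1 := by
    rw [hz, map_inv, map_pow]; simp only [map_mul, hB, hC, hD, hE]; rw [rel_th.1.nu, inv_one]
  have hc := X.cen z hz1
  let g : ℕ → Γ := fun l => [A, B, C, D, E, z, z⁻¹].getD l 1
  have inv' : ∀ {x : Γ}, x * x = 1 → x⁻¹ = x := fun h => inv_eq_of_mul_eq_one_right h
  have R : TC.Rules NTable.cert g (Subgroup.zpowers B) := by
    refine ⟨fun l => ?_, ?_, ?_⟩
    · match l with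
      | 0 => exact (inv' AA).symm
      | 1 => exact (inv' BB).symm
      | 2 => exact (inv' CC).symm
      | 3 => exact (inv' DD).symm
      | 4 => exact (inv' EE).symm
      | 5 | 6 => simp [g, NTable.cert, NTable.ivl]
      | _ + 7 => simp [g, NTable.cert, NTable.ivl]
    · have p3 : ∀ {x : Γ}, x ^ 3 = 1 → x * x * x = 1 := fun h => by rw [← h, pow_succ, pow_two]
      simp only [NTable.cert, List.forall_mem_cons, List.not_mem_nil, IsEmpty.forall_iff, forall_const,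
        and_true, wv, g, List.getD_cons_succ, List.getD_cons_zero, mul_one]
      have hcd : (D * C) ^ 4 = A := by
        rw [← inv' AA, ← acd, ← inv_pow, mul_inv_rev, inv' CC, inv' DD]
      have w4 : ∀ {x y : Γ}, Commute x y → x * x = 1 → y * y = 1 → x * (y * (x * y)) = 1 := fun {x y} h hx hy => by
        calc x * (y * (x * y)) = x * (y * x) * y := by group
          _ = x * x * (y * y) := by rw [← h.eq]; group
          _ = 1 := by rw [hx, hy, one_mul]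
      have zz : ∀ x : Γ, x * x = 1 → z⁻¹ * (x * (z * x)) = 1 := fun x hx => by
        rw [(hc x).eq, ← mul_assoc x, hx, one_mul, inv_mul_cancel]
      simp only [true_and]
      refine ⟨?_, ?_, ?_, ?_, ?_, ?_, ?_, ?_, ?_, ?_, ?_, ?_, ?_, ?_⟩
      · rw [← ab]; simp [pow_succ, mul_assoc]
      · exact w4 ae AA EE
      · rw [← bc]; simp [pow_succ, mul_assoc]
      · exact w4 bd BB DD
      · exact w4 be BB EE
      · calc _ = A * (D * C) ^ 4 := by simp [pow_succ, mul_assoc]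
          _ = 1 := by rw [hcd, AA]
      · exact w4 ce CC EE
      · rw [← de]; simp [pow_succ, mul_assoc]
      · calc _ = (B * C * D * E) ^ 8 * z := by simp [pow_succ, mul_assoc]
          _ = 1 := by rw [hz, mul_inv_cancel]
      all_goals exact zz _ (by assumption)
    · simp only [NTable.cert, List.forall_mem_cons, List.not_mem_nil, IsEmpty.forall_iff, forall_const,
        and_true, wv, g, List.getD_cons_succ, List.getD_cons_zero, mul_one]
      exact Subgroup.mem_zpowers B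
  have hm := TC.trace_mem R (TC.all_good R NTable.ok_all) NTable.trace0
  obtain ⟨i, hi⟩ := Subgroup.mem_zpowers_iff.1 (show z ∈ Subgroup.zpowers B by simpa [wv, g] using hm)
  have hb1 : gTh Th.Gen.b ≠ 1 := by
    have := X.ne (u := [1]) (v := []) (q := 0) (by decide +kernel) (by decide +kernel) (by decide +kernel)
      (by decide +kernel)
    simpa [psiH, homH_g9, wv, lets9] using this
  have ho : orderOf (gTh Th.Gen.b) = 2 := orderOf_eq_prime (hp := ⟨by norm_num⟩) rel_th.1.bb hb1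
  have h0 : gTh Th.Gen.b ^ i = 1 := by rw [← hB, ← map_zpow, hi, hz1]
  obtain ⟨j, rfl⟩ : (2 : ℤ) ∣ i := by
    have := orderOf_dvd_iff_zpow_eq_one.2 h0
    rwa [ho] at this
  have z1 : z = 1 := by rw [← hi, zpow_mul, zpow_ofNat, pow_two, BB, one_zpow]
  rw [← inv_eq_one, ← hz, z1]

/-- Normalised lifts of `a, b, c, d, e, s, t`, with any lift of `u` inverting that of `t`. -/
theorem exists_lift_H (X : Ext σ) : ∃ A B C D E S T : Γ, σ A = gTh .a ∧ σ B = gTh .b ∧ σ C = gTh .c ∧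
    σ D = gTh .d ∧ σ E = gTh .e ∧ σ S = gTh .s ∧ σ T = gTh .t ∧ RelH A B C D E S T ∧
    ∀ U : Γ, σ U = gTh .u → U⁻¹ * T * U = T⁻¹ := by
  obtain ⟨R, RU⟩ := rel_th
  obtain ⟨D, E, S, hD, hE, hS, DD, EE, DE, S7, DS, ES⟩ := exists_lift_des X
  obtain ⟨A0, hA0⟩ := X.surj (gTh .a)
  obtain ⟨B0, hB0⟩ := X.surj (gTh .b)
  obtain ⟨C0, hC0⟩ := X.surj (gTh .c)
  obtain ⟨T0, hT0⟩ := X.surj (gTh .t)
  obtain ⟨U0, hU0⟩ := X.surj (gTh .u)
  have sq : ∀ {g : Γ} {x : Th.Gen}, σ g = gTh x → gTh x ^ 2 = 1 → Cen (g * g) := fun h h2 =>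
    X.cen _ (by rw [map_mul, h, ← pow_two, h2])
  -- scale b and c to the square of a
  obtain ⟨α, hα⟩ : ∃ α, α = A0 * A0 := ⟨_, rfl⟩
  have αc : Cen α := hα ▸ sq hA0 R.aa
  have wABc : Cen ((A0 * B0) ^ 3) := X.cen _ (by rw [map_pow, map_mul, hA0, hB0, R.ab])
  obtain ⟨k, kc, k2, k3⟩ := exists_scale_to αc (sq hB0 R.bb) wABc
    (hα ▸ braid_sq (sq hA0 R.aa) (sq hB0 R.bb) wABc)
  have σk : σ k = 1 := by
    have h2 := congrArg σ k2
    rw [map_mul, map_mul, hB0, ← pow_two, R.bb, one_mul, map_pow, hα, map_mul, hA0, ← pow_two, R.aa] at h2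
    have h3 := congrArg σ k3
    rw [map_mul, map_pow, map_mul, hA0, hB0, R.ab, one_mul, map_pow, map_pow, hα, map_mul, hA0, ← pow_two,
      R.aa, one_pow] at h3
    exact eq_one_of_pow h2 h3 (by decide)
  obtain ⟨B1, hB1d⟩ : ∃ B1, B1 = B0 * k := ⟨_, rfl⟩
  have hB1 : σ B1 = gTh .b := by rw [hB1d, map_mul, hB0, σk, mul_one]
  have BB1 : B1 * B1 = α := by rw [hB1d, ← pow_two, kc.mul_pow, pow_two B0, k2]
  have AB1 : (A0 * B1) ^ 3 = α ^ 3 := by rw [hB1d, ← mul_assoc, kc.mul_pow, k3]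
  have wBCc : Cen ((B1 * C0) ^ 3) := X.cen _ (by rw [map_pow, map_mul, hB1, hC0, R.bc])
  obtain ⟨l, lc, l2, l3⟩ := exists_scale_to αc (sq hC0 R.cc) wBCc
    (BB1 ▸ braid_sq (sq hB1 R.bb) (sq hC0 R.cc) wBCc)
  have σl : σ l = 1 := by
    have h2 := congrArg σ l2
    rw [map_mul, map_mul, hC0, ← pow_two, R.cc, one_mul, map_pow, hα, map_mul, hA0, ← pow_two, R.aa] at h2
    have h3 := congrArg σ l3
    rw [map_mul, map_pow, map_mul, hB1, hC0, R.bc, one_mul, map_pow, map_pow, hα, map_mul, hA0, ← pow_two,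
      R.aa, one_pow] at h3
    exact eq_one_of_pow h2 h3 (by decide)
  obtain ⟨C1, hC1d⟩ : ∃ C1, C1 = C0 * l := ⟨_, rfl⟩
  have hC1 : σ C1 = gTh .c := by rw [hC1d, map_mul, hC0, σl, mul_one]
  have CC1 : C1 * C1 = α := by rw [hC1d, ← pow_two, lc.mul_pow, pow_two C0, l2]
  have BC1 : (B1 * C1) ^ 3 = α ^ 3 := by rw [hC1d, ← mul_assoc, lc.mul_pow, l3]
  -- the constant of a = (cd)^4
  have hS2 : ∀ {g : Γ} {x : Th.Gen}, σ g = gTh x → gTh x ^ 2 = 1 →
      (gTh .s)⁻¹ * (gTh x)⁻¹ * gTh .s * gTh x = 1 → Commute g S := fun {g x} h h2 hr =>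
    (commute_of_coprime (x := S) (y := g) (m := 7) (n := 2)
      (X.cen _ (by simp only [map_mul, map_inv, hS, h]; exact hr))
      (by rw [S7]; exact Cen.one) (by rw [pow_two]; exact sq h h2) (by decide)).symm
  have AS := hS2 hA0 R.aa R.sa
  have AE : Commute A0 E := commute_of_es AS (X.cen _ (by
    simp only [map_mul, map_inv, hA0, hE]; exact comm_of_sq R.aa R.ee R.ae)) ES
  have ci : (gTh Th.Gen.c)⁻¹ = gTh .c := inv_eq_of_mul_eq_one_right (by rw [← pow_two]; exact R.cc)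
  have di : (gTh Th.Gen.d)⁻¹ = gTh .d := inv_eq_of_mul_eq_one_right (by rw [← pow_two]; exact R.dd)
  have ai : (gTh Th.Gen.a)⁻¹ = gTh .a := inv_eq_of_mul_eq_one_right (by rw [← pow_two]; exact R.aa)
  have acd : (gTh Th.Gen.c * gTh .d) ^ 4 = gTh .a := (mul_inv_eq_one.1 R.acd).symm
  have thad : gTh Th.Gen.d * gTh .a = gTh .a * gTh .d := by
    have h : (gTh Th.Gen.d * gTh .c) ^ 4 = gTh .a := by
      rw [← ci, ← di, ← mul_inv_rev, inv_pow, acd, ai]
    calc gTh Th.Gen.d * gTh .a = gTh .d * (gTh .c * gTh .d) ^ 4 := by rw [acd]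
      _ = (gTh .d * gTh .c) ^ 4 * gTh .d := by simp [pow_succ, mul_assoc]
      _ = gTh .a * gTh .d := by rw [h]
  have AD : Commute A0 D := commute_of_braid (e := E) (X.cen _ (by
      simp only [map_mul, map_inv, hA0, hD]
      rw [mul_assoc, thad]; group)) AE (by rw [pow_two, DD]; exact Cen.one) (by rw [DE]; exact Cen.one)
  obtain ⟨θ, hθ⟩ : ∃ θ, θ = (C1 * D) ^ 4 * A0⁻¹ := ⟨_, rfl⟩
  have θc : Cen θ := X.cen _ (by rw [hθ, map_mul, map_pow, map_mul, hC1, hD, acd, map_inv, hA0, mul_inv_cancel])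
  have cd4 : (C1 * D) ^ 4 = θ * A0 := by rw [hθ, inv_mul_cancel_right]
  have DC : (D * C1) ^ 4 = (C1 * D) ^ 4 := by
    have h : D * (C1 * D) ^ 4 = (D * C1) ^ 4 * D := by simp [pow_succ, mul_assoc]
    have h' : D * (C1 * D) ^ 4 = (C1 * D) ^ 4 * D := by
      rw [cd4, ← mul_assoc, ← (θc D).eq, mul_assoc, ← AD.eq, mul_assoc]
    exact mul_right_cancel (h.symm.trans h')
  have AC : Commute A0 C1 := by
    have h : (C1 * D) ^ 4 * C1 = C1 * (D * C1) ^ 4 := by simp [pow_succ, mul_assoc]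
    rw [DC, cd4] at h
    show A0 * C1 = C1 * A0
    refine mul_left_cancel (a := θ) ?_
    rw [← mul_assoc, h, ← mul_assoc, ← (θc C1).eq, mul_assoc]
  have θ2 : θ ^ 2 = α ^ 3 := by
    have c2 : Cen (C1 * C1) := CC1 ▸ αc
    have h : D * C1 = (C1 * D)⁻¹ * α := by
      rw [eq_inv_mul_iff_mul_eq, mul_assoc, ← mul_assoc D, DD, one_mul, CC1]
    rw [h, αc.mul_pow, inv_pow, cd4] at DC
    have e : θ * A0 * (θ * A0) = α ^ 4 := by
      conv_lhs => arg 2; rw [← DC]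
      rw [← mul_assoc, mul_inv_cancel, one_mul]
    calc θ ^ 2 = θ * θ * (A0 * A0) * α⁻¹ := by rw [← hα, pow_two]; group
      _ = θ * A0 * (θ * A0) * α⁻¹ := by
          congr 1
          calc θ * θ * (A0 * A0) = θ * (θ * A0) * A0 := by group
            _ = θ * (A0 * θ) * A0 := by rw [(θc A0).eq]
            _ = _ := by group
      _ = α ^ 3 := by rw [e]; group
  obtain ⟨m, mc, m2, m3⟩ := exists_scale_pair αc θc θ2
  have σm : σ m = 1 := by
    have h2 := congrArg σ m2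
    rw [map_mul, map_one, hα, map_mul, hA0, ← pow_two, R.aa, one_mul, map_pow] at h2
    have h3 := congrArg σ m3
    rw [map_mul, map_one, hθ, map_mul, map_pow, map_mul, hC1, hD, acd, map_inv, hA0, mul_inv_cancel, one_mul,
      map_pow] at h3
    exact eq_one_of_pow h2 h3 (by decide)
  obtain ⟨A, hAd⟩ : ∃ A, A = A0 * m := ⟨_, rfl⟩
  obtain ⟨B, hBd⟩ : ∃ B, B = B1 * m := ⟨_, rfl⟩
  obtain ⟨C, hCd⟩ : ∃ C, C = C1 * m := ⟨_, rfl⟩
  have hA : σ A = gTh .a := by rw [hAd, map_mul, hA0, σm, mul_one]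
  have hB : σ B = gTh .b := by rw [hBd, map_mul, hB1, σm, mul_one]
  have hC : σ C = gTh .c := by rw [hCd, map_mul, hC1, σm, mul_one]
  have AA : A * A = 1 := by rw [hAd, ← pow_two, mc.mul_pow, pow_two A0, ← hα, m2]
  have BB : B * B = 1 := by rw [hBd, ← pow_two, mc.mul_pow, pow_two B1, BB1, m2]
  have CC : C * C = 1 := by rw [hCd, ← pow_two, mc.mul_pow, pow_two C1, CC1, m2]
  have six : α ^ 3 * (m ^ 2) ^ 3 = 1 := by rw [← (αc _).mul_pow, m2, one_pow]
  have AB : (A * B) ^ 3 = 1 := by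
    rw [hAd, hBd, ← mul_assoc, mc.mul_right_comm, mul_assoc, ← pow_two, (mc.pow 2).mul_pow, AB1, six]
  have BC : (B * C) ^ 3 = 1 := by
    rw [hBd, hCd, ← mul_assoc, mc.mul_right_comm, mul_assoc, ← pow_two, (mc.pow 2).mul_pow, BC1, six]
  have CD : (C * D) ^ 4 = A := by
    rw [hCd, mc.mul_right_comm, mc.mul_pow, cd4, hAd, (θc A0).eq, mul_assoc, pow_succ m 3, ← mul_assoc θ,
      m3, one_mul]
  have BS := hS2 hB R.bb R.sb
  have CS := hS2 hC R.cc R.sc
  have AS' := hS2 hA R.aa R.sa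
  have AE' : Commute A E := commute_of_es AS' (X.cen _ (by
    simp only [map_mul, map_inv, hA, hE]; exact comm_of_sq R.aa R.ee R.ae)) ES
  have BE : Commute B E := commute_of_es BS (X.cen _ (by
    simp only [map_mul, map_inv, hB, hE]; exact comm_of_sq R.bb R.ee R.be)) ES
  have CE : Commute C E := commute_of_es CS (X.cen _ (by
    simp only [map_mul, map_inv, hC, hE]; exact comm_of_sq R.cc R.ee R.ce)) ES
  have BD : Commute B D := commute_of_braid (e := E) (X.cen _ (by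
      simp only [map_mul, map_inv, hB, hD]; exact comm_of_sq R.bb R.dd R.bd)) BE
    (by rw [pow_two, DD]; exact Cen.one) (by rw [DE]; exact Cen.one)
  have nu := nu_lift X hB hC hD hE AA BB CC DD EE AB AE' BC BD BE CD CE DE
  -- the lift of t
  obtain ⟨η, hη⟩ : ∃ η, η = U0⁻¹ * T0 * U0 * T0 := ⟨_, rfl⟩
  have ση : σ η = 1 := by
    rw [hη]; simp only [map_mul, map_inv, hT0, hU0]
    have h := RU.tu
    rwa [inv_inv] at h
  have ηc : Cen η := X.cen _ ση
  obtain ⟨κ, hκ⟩ : ∃ κ, κ = T0 ^ 3 := ⟨_, rfl⟩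
  have σκ : σ κ = 1 := by rw [hκ, map_pow, hT0, R.tt]
  have κc : Cen κ := X.cen _ σκ
  have hκη : κ ^ 2 = η ^ 3 := by
    have h := conj_pow (i := 3) (a := U0⁻¹) (b := T0)
    rw [inv_inv, show U0⁻¹ * T0 * U0 = T0⁻¹ * η by rw [← (ηc _).eq, hη]; group, ηc.mul_pow, inv_pow, ← hκ,
      κc.conj] at h
    calc κ ^ 2 = κ * (κ⁻¹ * η ^ 3) := by rw [h, pow_two]
      _ = _ := mul_inv_cancel_left _ _
  obtain ⟨n, nc, n2, n3⟩ := exists_scale_pair ηc κc hκη
  have σn : σ n = 1 := by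
    have h2 := congrArg σ n2
    rw [map_mul, map_one, ση, one_mul, map_pow] at h2
    have h3 := congrArg σ n3
    rw [map_mul, map_one, σκ, one_mul, map_pow] at h3
    exact eq_one_of_pow h2 h3 (by decide)
  obtain ⟨T, hTd⟩ : ∃ T, T = T0 * n := ⟨_, rfl⟩
  have hT : σ T = gTh .t := by rw [hTd, map_mul, hT0, σn, mul_one]
  have T3 : T ^ 3 = 1 := by rw [hTd, nc.mul_pow, ← hκ, n3]
  have TU0 : U0⁻¹ * T * U0 * T = 1 := by
    rw [hTd, ← mul_assoc U0⁻¹, nc.mul_right_comm, ← mul_assoc, nc.mul_right_comm, ← hη, mul_assoc, ← pow_two,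
      n2]
  have hT2 : ∀ {g : Γ} {x : Th.Gen}, σ g = gTh x → g * g = 1 →
      (gTh .t)⁻¹ * (gTh x)⁻¹ * gTh .t * gTh x = 1 → Commute T g := fun {g x} h h2 hr =>
    commute_of_coprime (x := T) (y := g) (m := 3) (n := 2)
      (X.cen _ (by simp only [map_mul, map_inv, hT, h]; exact hr))
      (by rw [T3]; exact Cen.one) (by rw [pow_two, h2]; exact Cen.one) (by decide)
  have TD := hT2 hD DD R.td
  obtain ⟨μ, hμ⟩ : ∃ μ, μ = T⁻¹ * S * T * (S ^ 2)⁻¹ := ⟨_, rfl⟩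
  have μc : Cen μ := X.cen _ (by
    rw [hμ]; simp only [map_mul, map_inv, map_pow, hT, hS]; exact R.st)
  have hST : T⁻¹ * S * T = S ^ 2 * μ := by rw [← (μc _).eq, hμ, inv_mul_cancel_right]
  have μ7 : μ ^ 7 = 1 := by
    have h := conj_pow (i := 7) (a := T⁻¹) (b := S)
    rw [inv_inv, hST, μc.mul_pow, S7, mul_one, inv_mul_cancel, ← pow_mul, mul_comm 2 7, pow_mul, S7,
      one_pow, one_mul] at h
    exact h
  have μ2 : μ ^ 2 = 1 := by
    have l : D * (T⁻¹ * S * T) * D⁻¹ = (S ^ 2)⁻¹ * μ⁻¹ := by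
      calc D * (T⁻¹ * S * T) * D⁻¹ = (D * T⁻¹) * S * (D * T⁻¹)⁻¹ := by group
        _ = (T⁻¹ * D) * S * (T⁻¹ * D)⁻¹ := by rw [TD.inv_left.eq]
        _ = (T⁻¹ * S * T)⁻¹ := by rw [mul_inv_rev, ← mul_assoc]; simp only [mul_assoc]; rw [← mul_assoc D S,
              ← mul_assoc (D * S), DS]; group
        _ = (S ^ 2)⁻¹ * μ⁻¹ := by rw [hST, mul_inv_rev, (μc.inv _).eq]
    have r : D * (T⁻¹ * S * T) * D⁻¹ = (S ^ 2)⁻¹ * μ := by
      rw [hST, ← mul_assoc, μc.mul_right_comm, show D * S ^ 2 * D⁻¹ = (D * S * D⁻¹) ^ 2 from conj_pow.symm, DS,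
        inv_pow]
    rw [pow_two]
    conv_lhs => arg 1; rw [mul_left_cancel (r.symm.trans l)]
    exact inv_mul_cancel μ
  have ST : T⁻¹ * S * T * (S ^ 2)⁻¹ = 1 := hμ ▸ eq_one_of_pow μ7 μ2 (by decide)
  have pw : ∀ {x y : Γ}, Commute x y → x * x = 1 → y * y = 1 → (x * y) ^ 2 = 1 := fun h hx hy => by
    rw [h.mul_pow, pow_two, pow_two, hx, hy, one_mul]
  have cm : ∀ {x y : Γ}, Commute x y → x⁻¹ * y⁻¹ * x * y = 1 := fun h => by
    rw [mul_assoc, h.eq]; group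
  refine ⟨A, B, C, D, E, S, T, hA, hB, hC, hD, hE, hS, hT,
    ⟨(pow_two A).trans AA, (pow_two B).trans BB, (pow_two C).trans CC, (pow_two D).trans DD,
      (pow_two E).trans EE, AB, pw AE' AA EE, BC, pw BD BB DD, pw BE BB EE, by rw [CD, mul_inv_cancel],
      pw CE CC EE, DE, nu, S7, cm AS'.symm, cm BS.symm, cm CS.symm, ?_, ?_, T3, cm (hT2 hA AA R.ta),
      cm (hT2 hB BB R.tb), cm (hT2 hC CC R.tc), cm TD, cm (hT2 hE EE R.te), ST⟩, fun U hU => ?_⟩
  · have di' : D⁻¹ = D := inv_eq_of_mul_eq_one_right DD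
    rw [pow_two, ← mul_assoc, mul_assoc S D S, mul_assoc]
    rw [di'] at DS
    rw [mul_assoc D S D] at DS ⊢
    rw [DS, mul_inv_cancel]
  · rw [ES, mul_inv_cancel]
  · obtain ⟨z, zd⟩ : ∃ z, z = U0⁻¹ * U := ⟨_, rfl⟩
    have zc : Cen z := X.cen _ (by rw [zd, map_mul, map_inv, hU, hU0, inv_mul_cancel])
    rw [show U = U0 * z by rw [zd, mul_inv_cancel_left], zc.conj_by]
    exact eq_inv_of_mul_eq_one_left TU0

end

end Cfsg.Agent.ThMult
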