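import Cfsg.Agent.Lib.ThMult.LiftH
import Cfsg.Agent.Lib.ThMult.CTableCheck
import Cfsg.Agent.Lib.ThMult.XTableCheck
import Cfsg.Agent.Lib.ThMult.ETableCheck

/-!
A lift of `u` satisfying the remaining relations.
-/

set_option autoImplicit false
set_option maxRecDepth 100000

namespace Cfsg.Agent.ThMult

open Cfsg.Agent.HN Cfsg.Spor

noncomputable section

variable {Γ : Type*} [Group Γ] {σ : Γ →* Cfsg.Spor.Th}

/-- The relators at the head of a certificate follow from those of the nine letters. -/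
theorem rel_head {G : Type*} [Group G] {a b c d e s t : G} (R : RelH a b c d e s t) (g : ℕ → G) (f : List ℕ)
    (hinv : ∀ l, lets9 a b c d e s t (Th.iv9 l) = (lets9 a b c d e s t l)⁻¹)
    (hg : ∀ l < f.length, g l = lets9 a b c d e s t (f.getD l 9)) {rels : List (List ℕ)}
    (h : (rels.all fun r => letOK f.length r &&
      (eqW r [] || Th.derivedFrom Th.iv9 Th.rel9 (r.map fun l => f.getD l 9))) = true) :
    ∀ r ∈ rels, wv g r = 1 := by
  intro r hr
  have h' := List.all_eq_true.1 h r hr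
  simp only [Bool.and_eq_true, Bool.or_eq_true] at h'
  obtain ⟨hl, h'⟩ := h'
  have e : wv g r = wv (lets9 a b c d e s t) (r.map fun l => f.getD l 9) := by
    replace hl : ∀ l ∈ r, l < f.length := letOK_spec hl
    clear h hr h'
    induction r with
    | nil => rfl
    | cons l r ih =>
      rw [List.map_cons, wv_cons, wv_cons, hg l (hl l List.mem_cons_self),
        ih fun m hm => hl m (List.mem_cons_of_mem _ hm)]
  rcases h' with h' | h'
  · rw [eq_of_eqW h', wv_nil]
  · rw [e]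
    exact Th.derivedFrom_spec hinv (fun w hw => rel9_of_relH R w hw) h'

theorem lets9_inv {G : Type*} [Group G] {a b c d e s t : G} (R : RelH a b c d e s t) (l : ℕ) :
    lets9 a b c d e s t (Th.iv9 l) = (lets9 a b c d e s t l)⁻¹ := by
  have i : ∀ {x : G}, x ^ 2 = 1 → x⁻¹ = x := fun h => inv_eq_of_mul_eq_one_right (by rwa [← pow_two])
  match l with
  | 0 => exact (i R.aa).symm
  | 1 => exact (i R.bb).symm
  | 2 => exact (i R.cc).symm
  | 3 => exact (i R.dd).symm
  | 4 => exact (i R.ee).symm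
  | 5 | 6 | 7 | 8 => simp [lets9, Th.iv9]
  | _ + 9 => simp [lets9, Th.iv9]

/-- A relator saying that a letter at least `m` is central. -/
def centralRel (iv : ℕ → ℕ) (m : ℕ) (r : List ℕ) : Bool :=
  match r with
  | [x, y, z, h] => Nat.beq x (iv z) && Nat.beq y (iv h) && Nat.ble m z
  | _ => false

theorem centralRel_spec {G : Type*} [Group G] {g : ℕ → G} {iv : ℕ → ℕ} {m : ℕ}
    (hinv : ∀ l, g (iv l) = (g l)⁻¹) (hc : ∀ l, m ≤ l → Cen (g l)) {r : List ℕ}
    (h : centralRel iv m r = true) : wv g r = 1 := by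
  unfold centralRel at h
  split at h
  · rename_i x y z w
    simp only [Bool.and_eq_true, Nat.beq_eq, Nat.ble_eq] at h
    obtain ⟨⟨rfl, rfl⟩, hz⟩ := h
    simp only [wv, hinv, mul_one]
    rw [(hc z hz (g w)).eq, inv_mul_cancel_left, inv_mul_cancel]
  · exact absurd h (by simp)

/-- Elements of the lifted group of `a, b, c, d, e, s, t` over 1 are trivial. -/
theorem eq_one_of_mem_range (X : Ext σ) {A B C D E S T : Γ} (R : RelH A B C D E S T)
    (hA : σ A = gTh .a) (hB : σ B = gTh .b) (hC : σ C = gTh .c) (hD : σ D = gTh .d) (hE : σ E = gTh .e)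
    (hS : σ S = gTh .s) (hT : σ T = gTh .t) {z : Γ} (hz : z ∈ (homH R).range) (hz1 : σ z = 1) : z = 1 := by
  obtain ⟨h, rfl⟩ := hz
  have e : σ.comp (homH R) = psiH := PresentedGroup.ext fun i => by
    show σ (homH R (PresentedGroup.of i)) = psiH (PresentedGroup.of i)
    fin_cases i <;> simp [homH, psiH, gens7, hA, hB, hC, hD, hE, hS, hT]
  have h1 : psiH h = 1 := by rw [← e]; exact hz1
  rw [X.inj (h1.trans (map_one psiH).symm), map_one]

theorem wv_lets_mem {G : Type*} [Group G] {a b c d e s t : G} (R : RelH a b c d e s t) (l : ℕ) :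
    lets9 a b c d e s t l ∈ (homH R).range := ⟨Th.g9 l, homH_g9 R l⟩

/-- Words acting equally are equal in the lifted group. -/
theorem lets9_eq {G : Type*} [Group G] {a b c d e s t : G} (R : RelH a b c d e s t) {u v : List ℕ}
    (h : Th.pts.eqOn Th.base u v = true) : wv (lets9 a b c d e s t) u = wv (lets9 a b c d e s t) v := by
  rw [← homH_wv R, ← homH_wv R, Th.eq_of_eqOn h]

/-- The data of normalised lifts of the eight generators before the last constants are known. -/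
structure LiftData {Γ : Type*} [Group Γ] (σ : Γ →* Cfsg.Spor.Th) (A B C D E S T U : Γ) : Prop where
  hA : σ A = gTh .a
  hB : σ B = gTh .b
  hC : σ C = gTh .c
  hD : σ D = gTh .d
  hE : σ E = gTh .e
  hS : σ S = gTh .s
  hT : σ T = gTh .t
  hU : σ U = gTh .u
  rel : RelH A B C D E S T
  tu : U⁻¹ * T * U = T⁻¹
  eu : U⁻¹ * E * U = E
  eq : U * U * (C * A) = (U * S) ^ 3 * (C * A)

/-- The relations in the centraliser of `a`. -/
theorem rel_centraliser (X : Ext σ) {A B C D E S T U : Γ} (L : LiftData σ A B C D E S T U) :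
    U * U * (C * A) = 1 ∧ U⁻¹ * A * U * A = 1 ∧ U⁻¹ * C * U * C = 1 ∧ (D * E * (U⁻¹ * D * U)) ^ 2 = 1 ∧
    E * ((S ^ 2)⁻¹ * U * S ^ 2)⁻¹ * E * ((S ^ 2)⁻¹ * U * S ^ 2) = 1 ∧ A * C * ((U * S) ^ 3)⁻¹ = 1 ∧
    A * C * ((U⁻¹ * S⁻¹ * U * S) ^ 4)⁻¹ = 1 ∧
    (D * ((S ^ 2)⁻¹ * U * S ^ 2)) ^ 4 *
      (A * C * (D⁻¹ * C * D) * ((D * E * S⁻¹)⁻¹ * C * (D * E * S⁻¹)) *
        ((D * E * S ^ 2)⁻¹ * C * (D * E * S ^ 2)))⁻¹ = 1 := by
  obtain ⟨hA, hB, hC, hD, hE, hS, hT, hU, R, tu, eu, heq⟩ := L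
  obtain ⟨q, hq⟩ : ∃ z, z = U * U * (C * A) := ⟨_, rfl⟩
  obtain ⟨v, hv⟩ : ∃ z, z = (U⁻¹ * A * U * A)⁻¹ := ⟨_, rfl⟩
  obtain ⟨w, hw⟩ : ∃ z, z = (U⁻¹ * C * U * C)⁻¹ := ⟨_, rfl⟩
  obtain ⟨x, hx⟩ : ∃ z, z = ((D * E * (U⁻¹ * D * U)) ^ 2)⁻¹ := ⟨_, rfl⟩
  obtain ⟨n, hn⟩ : ∃ z, z = (E * ((S ^ 2)⁻¹ * U * S ^ 2)⁻¹ * E * ((S ^ 2)⁻¹ * U * S ^ 2))⁻¹ := ⟨_, rfl⟩
  obtain ⟨m, hm⟩ : ∃ z, z = (A * C * ((U⁻¹ * S⁻¹ * U * S) ^ 4)⁻¹)⁻¹ := ⟨_, rfl⟩
  obtain ⟨p, hp⟩ : ∃ z, z = ((D * ((S ^ 2)⁻¹ * U * S ^ 2)) ^ 4 *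
      (A * C * (D⁻¹ * C * D) * ((D * E * S⁻¹)⁻¹ * C * (D * E * S⁻¹)) *
        ((D * E * S ^ 2)⁻¹ * C * (D * E * S ^ 2)))⁻¹)⁻¹ := ⟨_, rfl⟩
  obtain ⟨RT, RU⟩ := rel_th
  have i : ∀ {G : Type} [Group G] {x : G}, x ^ 2 = 1 → x⁻¹ = x :=
    fun h => inv_eq_of_mul_eq_one_right (by rwa [← pow_two])
  have iA : A⁻¹ = A := inv_eq_of_mul_eq_one_right (by rw [← pow_two]; exact R.aa)
  have iC : C⁻¹ = C := inv_eq_of_mul_eq_one_right (by rw [← pow_two]; exact R.cc)
  have iD : D⁻¹ = D := inv_eq_of_mul_eq_one_right (by rw [← pow_two]; exact R.dd)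
  have iE : E⁻¹ = E := inv_eq_of_mul_eq_one_right (by rw [← pow_two]; exact R.ee)
  have σq : σ q = 1 := by
    rw [hq]; simp only [map_mul, hU, hA, hC]
    have h := RU.uu
    rw [mul_inv_rev, i RT.aa, i RT.cc, pow_two] at h
    exact h
  have σv : σ v = 1 := by
    rw [hv]; simp only [map_mul, map_inv, hU, hA, inv_eq_one]
    have h := RU.ua
    rwa [i RT.aa] at h
  have σw : σ w = 1 := by
    rw [hw]; simp only [map_mul, map_inv, hU, hC, inv_eq_one]
    have h := RU.uc
    rwa [i RT.cc] at h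
  have σx : σ x = 1 := by
    rw [hx]; simp only [map_mul, map_inv, map_pow, hU, hD, hE, inv_eq_one]; exact RU.xi
  have σn : σ n = 1 := by
    rw [hn]; simp only [map_mul, map_inv, map_pow, hU, hS, hE, inv_eq_one]
    have h := RU.eus
    rwa [i RT.ee] at h
  have σm : σ m = 1 := by
    rw [hm]; simp only [map_mul, map_inv, map_pow, hU, hS, hA, hC, inv_eq_one]; exact RU.us4
  have σp : σ p = 1 := by
    rw [hp]; simp only [map_mul, map_inv, map_pow, hU, hS, hA, hC, hD, hE, inv_eq_one]; exact RU.pi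
  let g : ℕ → Γ := fun l => [A, C, D, E, S, S⁻¹, T, T⁻¹, U, U⁻¹, q, q⁻¹, m, m⁻¹, n, n⁻¹, x, x⁻¹, p, p⁻¹,
    v, v⁻¹, w, w⁻¹].getD l 1
  have hinv : ∀ l, g (CTable.ivl l) = (g l)⁻¹ := fun l => by
    match l with
    | 0 => exact iA.symm
    | 1 => exact iC.symm
    | 2 => exact iD.symm
    | 3 => exact iE.symm
    | 4 | 5 | 6 | 7 | 8 | 9 | 10 | 11 | 12 | 13 | 14 | 15 | 16 | 17 | 18 | 19 | 20 | 21 | 22 | 23 =>
      simp [g, CTable.ivl]
    | _ + 24 => simp [g, CTable.ivl]
  have hcen : ∀ l, 10 ≤ l → Cen (g l) := fun l hl => by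
    match l with
    | 0 | 1 | 2 | 3 | 4 | 5 | 6 | 7 | 8 | 9 => omega
    | 10 => exact X.cen q σq
    | 11 => exact (X.cen q σq).inv
    | 12 => exact X.cen m σm
    | 13 => exact (X.cen m σm).inv
    | 14 => exact X.cen n σn
    | 15 => exact (X.cen n σn).inv
    | 16 => exact X.cen x σx
    | 17 => exact (X.cen x σx).inv
    | 18 => exact X.cen p σp
    | 19 => exact (X.cen p σp).inv
    | 20 => exact X.cen v σv
    | 21 => exact (X.cen v σv).inv
    | 22 => exact X.cen w σw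
    | 23 => exact (X.cen w σw).inv
    | k + 24 => simpa [g] using Cen.one
  have RC : TC.Rules CTable.cert g (homH R).range := by
    refine ⟨hinv, fun r hr => ?_, ?_⟩
    · rw [← List.take_append_drop 19 CTable.cert.rels] at hr
      rcases List.mem_append.1 hr with hr | hr
      · exact rel_head R g [0, 2, 3, 4, 5, 6, 7, 8] (lets9_inv R)
          (fun l hl => by simp only [List.length_cons, List.length_nil] at hl; interval_cases l <;> rfl)
          (by decide +kernel) r hr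
      rw [← List.take_append_drop 10 (CTable.cert.rels.drop 19)] at hr
      rcases List.mem_append.1 hr with hr | hr
      · refine (?_ : ∀ r ∈ List.take 10 (CTable.cert.rels.drop 19), wv g r = 1) r hr
        simp only [CTable.cert, List.drop_succ_cons, List.drop_zero, List.take_succ_cons, List.take_zero,
          List.forall_mem_cons, List.not_mem_nil, IsEmpty.forall_iff, forall_const, and_true, wv, g,
          List.getD_cons_succ, List.getD_cons_zero, mul_one]
        refine ⟨?_, ?_, ?_, ?_, ?_, ?_, ?_, ?_, ?_, ?_⟩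
        · calc _ = U * U * (C * A) * q⁻¹ := by group
            _ = 1 := by rw [hq, mul_inv_cancel]
        · calc _ = U⁻¹ * A * U * A * v := by group
            _ = 1 := by rw [hv, mul_inv_cancel]
        · calc _ = U⁻¹ * C * U * C * w := by group
            _ = 1 := by rw [hw, mul_inv_cancel]
        · rw [← mul_assoc E U E, ← mul_assoc U⁻¹, ← mul_assoc U⁻¹, mul_assoc _ E]
          calc _ = (U⁻¹ * E * U) * E := by group
            _ = 1 := by rw [eu]; nth_rewrite 1 [← iE]; exact inv_mul_cancel E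
        · calc _ = (D * E * (U⁻¹ * D * U)) ^ 2 * x := by simp [pow_succ, mul_assoc]
            _ = 1 := by rw [hx, mul_inv_cancel]
        · calc _ = U⁻¹ * T * U * T := by group
            _ = 1 := by rw [tu, inv_mul_cancel]
        · calc _ = E * ((S ^ 2)⁻¹ * U * S ^ 2)⁻¹ * E * ((S ^ 2)⁻¹ * U * S ^ 2) * n := by
                simp [pow_succ, mul_assoc]
            _ = 1 := by rw [hn, mul_inv_cancel]
        · calc _ = A * C * ((U * S) ^ 3)⁻¹ * q := by simp [pow_succ, mul_assoc]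
            _ = 1 := by
              rw [hq, heq, ← mul_assoc, inv_mul_cancel_right, ← mul_assoc, mul_assoc A C C,
                ← pow_two C, R.cc, mul_one, ← pow_two, R.aa]
        · calc _ = A * C * ((U⁻¹ * S⁻¹ * U * S) ^ 4)⁻¹ * m := by simp [pow_succ, mul_assoc]
            _ = 1 := by rw [hm, mul_inv_cancel]
        · calc _ = (D * ((S ^ 2)⁻¹ * U * S ^ 2)) ^ 4 *
                (A * C * (D⁻¹ * C * D) * ((D * E * S⁻¹)⁻¹ * C * (D * E * S⁻¹)) *
                ((D * E * S ^ 2)⁻¹ * C * (D * E * S ^ 2)))⁻¹ * p := by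
                simp [pow_succ, mul_assoc, iA, iC, iD, iE]
            _ = 1 := by rw [hp, mul_inv_cancel]
      · have h : (List.all ((CTable.cert.rels.drop 19).drop 10) fun r => centralRel CTable.ivl 10 r) = true := by
          decide +kernel
        exact centralRel_spec hinv hcen (List.all_eq_true.1 h r hr)
    · simp only [CTable.cert, List.forall_mem_cons, List.not_mem_nil, IsEmpty.forall_iff, forall_const,
        and_true, wv, g, List.getD_cons_succ, List.getD_cons_zero, mul_one]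
      exact ⟨wv_lets_mem R 0, wv_lets_mem R 2, wv_lets_mem R 3, wv_lets_mem R 4, wv_lets_mem R 5,
        wv_lets_mem R 7⟩
  have hg := TC.all_good RC CTable.ok_all
  have one : ∀ {z : Γ}, z ∈ (homH R).range → σ z = 1 → z = 1 :=
    eq_one_of_mem_range X R hA hB hC hD hE hS hT
  have q1 : q = 1 := one (by simpa [wv, g] using TC.trace_mem RC hg CTable.trace0) σq
  have m1 : m = 1 := one (by simpa [wv, g] using TC.trace_mem RC hg CTable.trace1) σm
  have n1 : n = 1 := one (by simpa [wv, g] using TC.trace_mem RC hg CTable.trace2) σn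
  have x1 : x = 1 := one (by simpa [wv, g] using TC.trace_mem RC hg CTable.trace3) σx
  have p1 : p = 1 := one (by simpa [wv, g] using TC.trace_mem RC hg CTable.trace4) σp
  have v1 : v = 1 := one (by simpa [wv, g] using TC.trace_mem RC hg CTable.trace5) σv
  have w1 : w = 1 := one (by simpa [wv, g] using TC.trace_mem RC hg CTable.trace6) σw
  refine ⟨hq ▸ q1, inv_eq_one.1 (hv ▸ v1), inv_eq_one.1 (hw ▸ w1), inv_eq_one.1 (hx ▸ x1),
    inv_eq_one.1 (hn ▸ n1), ?_, inv_eq_one.1 (hm ▸ m1), inv_eq_one.1 (hp ▸ p1)⟩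
  rw [hq, heq, ← eq_inv_iff_mul_eq_one] at q1
  rw [q1, inv_inv, mul_assoc, ← mul_assoc C C, ← pow_two C, R.cc, one_mul, ← pow_two, R.aa]

end

end Cfsg.Agent.ThMult
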