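import Cfsg.Agent.Lib.ThMult.LiftU
import Cfsg.Prelude.Def_KGroupFacts

/-!
Stem extensions of the presented Thompson group are trivial, given that the group of `a, b, c, d, e, s, t` maps
injectively to it.
-/

set_option autoImplicit false
set_option maxRecDepth 100000

namespace Cfsg.Agent.ThMult

open Cfsg.Agent.HN Cfsg.Spor
open scoped commutatorElement

noncomputable section

variable {Γ : Type*} [Group Γ] {σ : Γ →* Cfsg.Spor.Th}

/-- Lifts satisfying all relations. -/
theorem exists_lift (X : Ext σ) : ∃ f : Th.Gen → Γ, (∀ x, σ (f x) = gTh x) ∧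
    RelH (f .a) (f .b) (f .c) (f .d) (f .e) (f .s) (f .t) ∧
    RelU (f .a) (f .b) (f .c) (f .d) (f .e) (f .s) (f .t) (f .u) := by
  obtain ⟨A, B, C, D, E, S, T, hA, hB, hC, hD, hE, hS, hT, R, hTU⟩ := exists_lift_H X
  obtain ⟨RT, RU⟩ := rel_th
  obtain ⟨U0, hU0⟩ := X.surj (gTh .u)
  have iA : A⁻¹ = A := inv_eq_of_mul_eq_one_right (by rw [← pow_two]; exact R.aa)
  have iB : B⁻¹ = B := inv_eq_of_mul_eq_one_right (by rw [← pow_two]; exact R.bb)
  have iC : C⁻¹ = C := inv_eq_of_mul_eq_one_right (by rw [← pow_two]; exact R.cc)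
  have iE : E⁻¹ = E := inv_eq_of_mul_eq_one_right (by rw [← pow_two]; exact R.ee)
  obtain ⟨W, hW⟩ : ∃ W, W = B⁻¹ * (A * C) * B := ⟨_, rfl⟩
  have WW : W * W = 1 := by
    have h := lets9_eq R (u := [1, 0, 2, 1, 1, 0, 2, 1]) (v := []) (by decide +kernel)
    calc W * W = wv (lets9 A B C D E S T) [1, 0, 2, 1, 1, 0, 2, 1] := by
          rw [hW, iB]; simp [wv, lets9, mul_assoc]
      _ = 1 := h.trans (wv_nil _)
  have WE : Commute W E := by
    have h := lets9_eq R (u := [1, 0, 2, 1, 4]) (v := [4, 1, 0, 2, 1]) (by decide +kernel)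
    show W * E = E * W
    simpa [wv, lets9, hW, iB, mul_assoc] using h
  have WS : Commute W S := by
    have h := lets9_eq R (u := [1, 0, 2, 1, 5]) (v := [5, 1, 0, 2, 1]) (by decide +kernel)
    show W * S = S * W
    simpa [wv, lets9, hW, iB, mul_assoc] using h
  have WG : Commute W (A * C) := by
    have h := lets9_eq R (u := [1, 0, 2, 1, 0, 2]) (v := [0, 2, 1, 0, 2, 1]) (by decide +kernel)
    show W * (A * C) = A * C * W
    simpa [wv, lets9, hW, iB, mul_assoc] using h
  have iW : W⁻¹ = W := inv_eq_of_mul_eq_one_right WW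
  have EE : E * E = 1 := by rw [← pow_two]; exact R.ee
  obtain ⟨δ, hδ⟩ : ∃ δ, δ = U0⁻¹ * W⁻¹ * U0 * W * E⁻¹ := ⟨_, rfl⟩
  have δc : Cen δ := X.cen _ (by
    rw [hδ]; simp only [map_mul, map_inv, hU0, hW, hA, hB, hC, hE]
    exact RU.delta)
  have conjW : U0⁻¹ * W * U0 = δ * E * W := by
    rw [hδ, iW, inv_mul_cancel_right, mul_assoc (U0⁻¹ * W * U0) W W, WW, mul_one]
  have δ2 : δ * δ = 1 := by
    calc δ * δ = δ * δ * ((E * E) * (W * W)) := by rw [EE, WW, mul_one, mul_one]
      _ = δ * E * (δ * (E * W)) * W := by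
          rw [← mul_assoc δ E W]
          calc δ * δ * (E * E * (W * W)) = δ * (δ * E) * E * W * W := by group
            _ = δ * (E * δ) * E * W * W := by rw [(δc E).eq]
            _ = _ := by group
      _ = δ * E * (δ * (W * E)) * W := by rw [WE.eq]
      _ = δ * E * W * (δ * E * W) := by
          rw [← mul_assoc δ W E, (δc W).eq]; group
      _ = (U0⁻¹ * W * U0) * (U0⁻¹ * W * U0) := by rw [conjW]
      _ = U0⁻¹ * (W * W) * U0 := by group
      _ = 1 := by rw [WW, mul_one, inv_mul_cancel]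
  have eu0 : U0⁻¹ * E * U0 = E := by
    obtain ⟨γ, hγ⟩ : ∃ γ, γ = U0 * U0 * (A * C)⁻¹ := ⟨_, rfl⟩
    have γc : Cen γ := X.cen _ (by
      rw [hγ]; simp only [map_mul, map_inv, hU0, hA, hC]
      rw [← pow_two]; exact RU.uu)
    have h1 : (U0 * U0)⁻¹ * W * (U0 * U0) = W := by
      rw [show U0 * U0 = A * C * γ by rw [← (γc _).eq, hγ, inv_mul_cancel_right], γc.conj_by,
        mul_assoc, WG.eq, inv_mul_cancel_left]
    have h2 : (U0 * U0)⁻¹ * W * (U0 * U0) = (δ * δ) * (U0⁻¹ * E * U0 * E * W) := by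
      calc (U0 * U0)⁻¹ * W * (U0 * U0) = U0⁻¹ * (U0⁻¹ * W * U0) * U0 := by group
        _ = U0⁻¹ * (δ * E * W) * U0 := by rw [conjW]
        _ = U0⁻¹ * δ * U0 * (U0⁻¹ * E * U0) * (U0⁻¹ * W * U0) := by group
        _ = δ * (U0⁻¹ * E * U0) * (δ * E * W) := by rw [δc.conj, conjW]
        _ = δ * ((U0⁻¹ * E * U0) * δ) * (E * W) := by group
        _ = δ * (δ * (U0⁻¹ * E * U0)) * (E * W) := by rw [← (δc (U0⁻¹ * E * U0)).eq]
        _ = _ := by group
    rw [δ2, one_mul, h1] at h2
    have h3 : U0⁻¹ * E * U0 * E = 1 := mul_right_cancel (h2.symm.trans (one_mul _).symm)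
    rw [mul_eq_one_iff_eq_inv, iE] at h3
    exact h3
  obtain ⟨γ, hγ⟩ : ∃ γ, γ = U0 * U0 * (C * A) := ⟨_, rfl⟩
  obtain ⟨ζ, hζ⟩ : ∃ ζ, ζ = (U0 * S) ^ 3 * (C * A) := ⟨_, rfl⟩
  have i : ∀ {G : Type} [Group G] {x : G}, x ^ 2 = 1 → x⁻¹ = x :=
    fun h => inv_eq_of_mul_eq_one_right (by rwa [← pow_two])
  have σγ : σ γ = 1 := by
    rw [hγ]; simp only [map_mul, hU0, hA, hC]
    have h := RU.uu
    rw [mul_inv_rev, i RT.aa, i RT.cc, pow_two] at h
    exact h
  have σζ : σ ζ = 1 := by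
    rw [hζ]; simp only [map_mul, map_pow, hU0, hA, hC, hS]
    have h := inv_eq_one.2 RU.us3
    rwa [mul_inv_rev, mul_inv_rev, inv_inv, i RT.aa, i RT.cc] at h
  obtain ⟨k, kc, hk⟩ := exists_scale_eq (X.cen _ σγ) (X.cen _ σζ)
  have σk : σ k = 1 := by
    have h := congrArg σ hk
    rw [map_mul, map_mul, σγ, σζ, one_mul, one_mul, map_pow, map_pow, pow_succ _ 2] at h
    exact (mul_left_cancel (h.symm.trans (mul_one _).symm))
  obtain ⟨U, hUd⟩ : ∃ U, U = U0 * k := ⟨_, rfl⟩
  have hU : σ U = gTh .u := by rw [hUd, map_mul, hU0, σk, mul_one]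
  have eq : U * U * (C * A) = (U * S) ^ 3 * (C * A) := by
    rw [hUd, ← pow_two, kc.mul_pow, kc.mul_right_comm U0 S, kc.mul_pow, (kc.pow 2).mul_right_comm,
      (kc.pow 3).mul_right_comm, pow_two U0, ← hγ, ← hζ, hk]
  have eu : U⁻¹ * E * U = E := by rw [hUd, kc.conj_by, eu0]
  have tu := hTU U hU
  obtain ⟨uu, ua, uc, xi, eus, us3, us4, pi⟩ :=
    rel_centraliser X ⟨hA, hB, hC, hD, hE, hS, hT, hU, R, tu, eu, eq⟩
  have conjWU : U⁻¹ * W * U = δ * E * W := by rw [hUd, kc.conj_by, conjW]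
  have one : ∀ {z : Γ}, z ∈ (homH R).range → σ z = 1 → z = 1 :=
    eq_one_of_mem_range X R hA hB hC hD hE hS hT
  have cm : ∀ {x y : Γ}, x⁻¹ = x → y⁻¹ * x * y = x → x * (y⁻¹ * (x * y)) = 1 := fun {x y} hx h => by
    rw [← mul_assoc y⁻¹, h]; nth_rewrite 1 [← hx]; exact inv_mul_cancel x
  -- the constant of `[u, (ac)^b] = e`
  have δ1 : δ = 1 := by
    let g : ℕ → Γ := fun l => [A, C, D, E, S, S⁻¹, T, T⁻¹, U, U⁻¹].getD l 1
    have iD : D⁻¹ = D := inv_eq_of_mul_eq_one_right (by rw [← pow_two]; exact R.dd)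
    have hinv : ∀ l, g (XTable.ivl l) = (g l)⁻¹ := fun l => by
      match l with
      | 0 => exact iA.symm
      | 1 => exact iC.symm
      | 2 => exact iD.symm
      | 3 => exact iE.symm
      | 4 | 5 | 6 | 7 | 8 | 9 => simp [g, XTable.ivl]
      | _ + 10 => simp [g, XTable.ivl]
    have RX : TC.Rules XTable.cert g (homH R).range := by
      refine ⟨hinv, fun r hr => ?_, ?_⟩
      · rw [← List.take_append_drop 19 XTable.cert.rels] at hr
        rcases List.mem_append.1 hr with hr | hr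
        · exact rel_head R g [0, 2, 3, 4, 5, 6, 7, 8] (lets9_inv R)
            (fun l hl => by simp only [List.length_cons, List.length_nil] at hl; interval_cases l <;> rfl)
            (by decide +kernel) r hr
        refine (?_ : ∀ r ∈ XTable.cert.rels.drop 19, wv g r = 1) r hr
        simp only [XTable.cert, List.drop_succ_cons, List.drop_zero, List.forall_mem_cons, List.not_mem_nil,
          IsEmpty.forall_iff, forall_const, and_true, wv, g, List.getD_cons_succ, List.getD_cons_zero, mul_one]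
        refine ⟨?_, ?_, ?_, ?_, ?_, ?_, ?_, ?_, ?_, ?_⟩
        · rw [← uu]; group
        · rw [← ua]; group
        · rw [← uc]; group
        · calc _ = (U⁻¹ * E * U) * E := by group
            _ = 1 := by rw [eu, EE]
        · rw [← xi]; simp [pow_succ, mul_assoc]
        · calc _ = U⁻¹ * T * U * T := by group
            _ = 1 := by rw [tu, inv_mul_cancel]
        · rw [← eus]; simp [pow_succ, mul_assoc]
        · rw [← us3]; simp [pow_succ, mul_assoc]
        · rw [← us4]; simp [pow_succ, mul_assoc]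
        · rw [← pi]; simp [pow_succ, mul_assoc, iA, iC, iD, iE]
      · simp only [XTable.cert, List.forall_mem_cons, List.not_mem_nil, IsEmpty.forall_iff, forall_const,
          and_true, wv, g, List.getD_cons_succ, List.getD_cons_zero, mul_one]
        exact ⟨wv_lets_mem R 0, wv_lets_mem R 2, wv_lets_mem R 3, wv_lets_mem R 4, wv_lets_mem R 5,
          wv_lets_mem R 7⟩
    have hm := TC.trace_mem RX (TC.all_good RX XTable.ok_all) XTable.trace0
    have hG : A * C = (U * S) ^ 3 := mul_inv_eq_one.1 us3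
    have h1 : W⁻¹ * (U * S) * W = δ * (U * E * S) := by
      have a1 : W * U * W = U * (δ * E) := by
        calc W * U * W = U * (U⁻¹ * W * U) * W := by group
          _ = U * (δ * E) * (W * W) := by rw [conjWU]; group
          _ = _ := by rw [WW, mul_one]
      have a2 : W * S * W = S := by rw [WS.eq, mul_assoc, WW, mul_one]
      calc W⁻¹ * (U * S) * W = W * U * (W * W) * S * W := by rw [iW, WW, mul_one]; group
        _ = (W * U * W) * (W * S * W) := by group
        _ = U * δ * E * S := by rw [a1, a2]; group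
        _ = δ * U * E * S := by rw [(δc U).eq]
        _ = _ := by group
    have h2 := conj_pow (i := 3) (a := W⁻¹) (b := U * S)
    rw [inv_inv, h1, (δc _).mul_pow, ← hG, mul_assoc W⁻¹, ← WG.eq, inv_mul_cancel_left, pow_succ δ 2,
      pow_two δ, δ2, one_mul] at h2
    have h3 : (U * E * S) ^ 3 * (C * A) = δ := by
      have hca : C * A = (A * C)⁻¹ := by rw [mul_inv_rev, iA, iC]
      rw [hca, ← h2, mul_inv_rev, ← mul_assoc, mul_inv_cancel, one_mul]
      exact inv_eq_of_mul_eq_one_right δ2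
    refine one ?_ ?_
    · rw [← h3]
      simpa [wv, g, pow_succ, mul_assoc] using hm
    · rw [hδ]; simp only [map_mul, map_inv, hU0, hW, hA, hB, hC, hE]
      exact RU.delta
  have delta : U⁻¹ * W⁻¹ * U * W * E⁻¹ = 1 := by
    rw [iW, mul_assoc U⁻¹ W U, ← mul_assoc U⁻¹, conjWU, δ1, one_mul, mul_assoc E W W, WW, mul_one, mul_inv_cancel]
  -- the mixed relation
  have mixed : ((D⁻¹ * U * D)⁻¹ * W⁻¹ * (D⁻¹ * U * D) * W) * (U * E * W * (D⁻¹ * U * D) * E * C)⁻¹ = 1 := by
    obtain ⟨q, hq⟩ : ∃ q, q = (((D⁻¹ * U * D)⁻¹ * W⁻¹ * (D⁻¹ * U * D) * W) *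
        (U * E * W * (D⁻¹ * U * D) * E * C)⁻¹)⁻¹ := ⟨_, rfl⟩
    have σq : σ q = 1 := by
      rw [hq]; simp only [map_mul, map_inv, hU, hW, hA, hB, hC, hD, hE, inv_eq_one]
      exact RU.mixed
    let g : ℕ → Γ := fun l => [A, B, C, D, E, U, U⁻¹, q, q⁻¹].getD l 1
    have iD : D⁻¹ = D := inv_eq_of_mul_eq_one_right (by rw [← pow_two]; exact R.dd)
    have hinv : ∀ l, g (ETable.ivl l) = (g l)⁻¹ := fun l => by
      match l with
      | 0 => exact iA.symm
      | 1 => exact iB.symm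
      | 2 => exact iC.symm
      | 3 => exact iD.symm
      | 4 => exact iE.symm
      | 5 | 6 | 7 | 8 => simp [g, ETable.ivl]
      | _ + 9 => simp [g, ETable.ivl]
    have hcen : ∀ l, 7 ≤ l → Cen (g l) := fun l hl => by
      match l with
      | 0 | 1 | 2 | 3 | 4 | 5 | 6 => omega
      | 7 => exact X.cen q σq
      | 8 => exact (X.cen q σq).inv
      | n + 9 => simpa [g] using Cen.one
    have RE : TC.Rules ETable.cert g (homH R).range := by
      refine ⟨hinv, fun r hr => ?_, ?_⟩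
      · rw [← List.take_append_drop 14 ETable.cert.rels] at hr
        rcases List.mem_append.1 hr with hr | hr
        · exact rel_head R g [0, 1, 2, 3, 4] (lets9_inv R)
            (fun l hl => by simp only [List.length_cons, List.length_nil] at hl; interval_cases l <;> rfl)
            (by decide +kernel) r hr
        rw [← List.take_append_drop 7 (ETable.cert.rels.drop 14)] at hr
        rcases List.mem_append.1 hr with hr | hr
        · refine (?_ : ∀ r ∈ List.take 7 (ETable.cert.rels.drop 14), wv g r = 1) r hr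
          simp only [ETable.cert, List.drop_succ_cons, List.drop_zero, List.take_succ_cons, List.take_zero,
            List.forall_mem_cons, List.not_mem_nil, IsEmpty.forall_iff, forall_const, and_true, wv, g,
            List.getD_cons_succ, List.getD_cons_zero, mul_one]
          refine ⟨?_, ?_, ?_, ?_, ?_, ?_, ?_⟩
          · rw [← uu]; group
          · rw [← ua]; group
          · rw [← uc]; group
          · calc _ = (U⁻¹ * E * U) * E := by group
              _ = 1 := by rw [eu, EE]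
          · rw [← xi]; simp [pow_succ, mul_assoc]
          · calc _ = U⁻¹ * W⁻¹ * U * W * E⁻¹ := by rw [hW]; simp [mul_assoc, iA, iB, iC, iE]
              _ = 1 := delta
          · calc _ = ((D⁻¹ * U * D)⁻¹ * W⁻¹ * (D⁻¹ * U * D) * W) *
                  (U * E * W * (D⁻¹ * U * D) * E * C)⁻¹ * q := by
                  rw [hW]; simp [mul_assoc, iA, iB, iC, iD, iE]
              _ = 1 := by rw [hq, mul_inv_cancel]
        · have h : (List.all ((ETable.cert.rels.drop 14).drop 7) fun r => centralRel ETable.ivl 7 r) = true := by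
            decide +kernel
          exact centralRel_spec hinv hcen (List.all_eq_true.1 h r hr)
      · simp only [ETable.cert, List.forall_mem_cons, List.not_mem_nil, IsEmpty.forall_iff, forall_const,
          and_true, wv, g, List.getD_cons_succ, List.getD_cons_zero, mul_one]
        exact ⟨wv_lets_mem R 0, wv_lets_mem R 1, wv_lets_mem R 2, wv_lets_mem R 3, wv_lets_mem R 4⟩
    have q1 : q = 1 :=
      one (by simpa [wv, g] using TC.trace_mem RE (TC.all_good RE ETable.ok_all) ETable.trace0) σq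
    exact inv_eq_one.1 (hq ▸ q1)
  let f : Th.Gen → Γ := fun x => match x with
    | .a => A | .b => B | .c => C | .d => D | .e => E | .s => S | .t => T | .u => U
  refine ⟨f, fun x => ?_, R, ⟨?_, ?_, ?_, ?_, xi, ?_, ?_, ?_, ?_, us3, us4, pi⟩⟩
  · cases x <;> assumption
  · show U ^ 2 * (A * C)⁻¹ = 1
    rw [pow_two, mul_inv_rev, iA, iC]; exact uu
  · show U⁻¹ * A⁻¹ * U * A = 1
    rw [iA]; exact ua
  · show U⁻¹ * C⁻¹ * U * C = 1
    rw [iC]; exact uc
  · show U⁻¹ * E⁻¹ * U * E = 1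
    rw [iE, eu, EE]
  · show U⁻¹ * (B⁻¹ * (A * C) * B)⁻¹ * U * (B⁻¹ * (A * C) * B) * E⁻¹ = 1
    rw [← hW]; exact delta
  · show (D⁻¹ * U * D)⁻¹ * (B⁻¹ * (A * C) * B)⁻¹ * (D⁻¹ * U * D) * (B⁻¹ * (A * C) * B) *
      (U * E * (B⁻¹ * (A * C) * B) * (D⁻¹ * U * D) * E * C)⁻¹ = 1
    rw [← hW]; exact mixed
  · show U⁻¹ * T * U * (T⁻¹)⁻¹ = 1
    rw [tu, mul_inv_cancel]
  · show E⁻¹ * ((S ^ 2)⁻¹ * U * S ^ 2)⁻¹ * E * ((S ^ 2)⁻¹ * U * S ^ 2) = 1
    rw [iE]; exact eus

/-- **Stem extensions of the presented Thompson group are trivial**, given injectivity on the group of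
`a, b, c, d, e, s, t`. -/
theorem ker_eq_bot (hinj : Function.Injective psiH) (hσ : Cfsg.IsStemExtension σ) : σ.ker = ⊥ := by
  obtain ⟨hs, hz, hk⟩ := hσ
  have X : Ext σ := ⟨hs, fun z h g => (Subgroup.mem_center_iff.1 (hz h) g).symm, hinj⟩
  obtain ⟨f, hf, h, h'⟩ := exists_lift X
  let r := homOfRel f h h'
  have hr : ∀ y, σ (r y) = y := by
    have e : σ.comp r = MonoidHom.id _ := PresentedGroup.ext fun x => by
      show σ (r (gTh x)) = gTh x
      rw [homOfRel_gTh, hf]
    exact fun y => DFunLike.congr_fun e y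
  have dec : ∀ g : Γ, ∃ y z, g = r y * z ∧ Cen z := fun g =>
    ⟨σ g, (r (σ g))⁻¹ * g, (mul_inv_cancel_left _ _).symm,
      X.cen _ (by rw [map_mul, map_inv, hr, inv_mul_cancel])⟩
  have hc : commutator Γ ≤ r.range := by
    rw [commutator_def]
    refine Subgroup.commutator_le.2 fun g _ g' _ => ?_
    obtain ⟨y, z, rfl, zc⟩ := dec g
    obtain ⟨y', z', rfl, zc'⟩ := dec g'
    refine ⟨⁅y, y'⁆, ?_⟩
    rw [map_commutatorElement, commutatorElement_def, commutatorElement_def]
    calc r y * r y' * (r y)⁻¹ * (r y')⁻¹ = r y * (r y' * z') * (z'⁻¹ * (r y)⁻¹) * (r y')⁻¹ := by group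
      _ = r y * (z * z⁻¹) * (r y' * z') * ((r y)⁻¹ * z'⁻¹) * (r y')⁻¹ := by
          rw [(zc'.inv _).eq, mul_inv_cancel, mul_one]
      _ = (r y * z) * (z⁻¹ * ((r y' * z') * (r y)⁻¹)) * (z'⁻¹ * (r y')⁻¹) := by group
      _ = (r y * z) * ((r y' * z') * (r y)⁻¹ * z⁻¹) * ((r y')⁻¹ * z'⁻¹) := by
          rw [(zc.inv _).eq, (zc'.inv _).eq]
      _ = r y * z * (r y' * z') * ((r y)⁻¹ * z⁻¹) * ((r y')⁻¹ * z'⁻¹) := by group
      _ = r y * z * (r y' * z') * (r y * z)⁻¹ * (r y' * z')⁻¹ := by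
          rw [mul_inv_rev, mul_inv_rev, (zc.inv _).eq, (zc'.inv _).eq]
  refine (Subgroup.eq_bot_iff_forall _).2 fun z hz1 => ?_
  obtain ⟨y, rfl⟩ := hc (hk hz1)
  rw [MonoidHom.mem_ker, hr] at hz1
  rw [hz1, map_one]

/-- The multiplier is trivial. -/
theorem multiplier_one (hfin : Finite Cfsg.Spor.Th) (hinj : Function.Injective psiH) :
    Cfsg.HasCyclicSchurMultiplier Cfsg.Spor.Th 1 := by
  refine ⟨⟨Cfsg.Spor.Th, inferInstance, inferInstance, MonoidHom.id _, ⟨fun g => ⟨g, rfl⟩,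
    fun a ha => by rw [show a = 1 from ha]; exact one_mem _, fun a ha => by rw [show a = 1 from ha]; exact one_mem _⟩,
    ?_⟩, fun Γ _ _ τ hτ => ?_⟩
  · haveI : Subsingleton ↥(MonoidHom.id Cfsg.Spor.Th).ker := ⟨fun a b => Subtype.ext (a.2.trans b.2.symm)⟩
    exact ⟨{ toFun := fun _ => 1, invFun := fun _ => 1, left_inv := fun _ => Subsingleton.elim _ _,
             right_inv := fun _ => Subsingleton.elim _ _, map_mul' := fun _ _ => (one_mul 1).symm }⟩
  · refine ⟨1, fun x => ⟨1, Subtype.ext ?_⟩⟩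
    exact ((Subgroup.mem_bot).1 (ker_eq_bot hinj hτ ▸ x.2)).symm

end

end Cfsg.Agent.ThMult
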