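import Cfsg.Agent.Lib.HN.TC

/-! the square of e -/

set_option autoImplicit false
set_option maxRecDepth 100000
set_option maxHeartbeats 4000000
set_option Elab.async false

namespace Cfsg.Agent.ThMult.PTable

open Cfsg.Agent.HN

noncomputable section

open Cfsg.Agent.HN

/-- part of the tree -/
def nodes0 : Trie :=
  (.node (.node (.node (.node (.leaf 0x0) (.leaf 0x200007)) (.node (.leaf 0x300003) (.leaf 0))) (.node (.node (.leaf 0x300001) (.leaf 0x200009)) (.node (.leaf 0x500000) (.leaf 0)))) (.node (.node (.node (.leaf 0x100000) (.leaf 0x200008)) (.node (.leaf 0x300004) (.leaf 0))) (.node (.node (.leaf 0x2) (.leaf 0x20000a)) (.node (.leaf 0x200001) (.leaf 0)))))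

/-- the tree -/
def nodes : Trie :=
  nodes0

/-- part of the facts -/
def facts0 : Trie :=
  (.node (.node (.node (.node (.node (.leaf 0x200000000000000000000000000000300002) (.leaf 0x140000200000000000000300015000190001e00007000010000000008000010000800007000090000200002)) (.node (.leaf 0x6000000000600000) (.leaf 0xc0002f00000000020000000000000000000000000000010000200001))) (.node (.node (.leaf 0x4000030000400000) (.leaf 0x400015000190001f000250002600005000010000000000000000000a000020000b0000300002)) (.node (.leaf 0x8000070000300000) (.leaf 0)))) (.node (.node (.node (.leaf 0x2000010000400000) (.leaf 0xa000090000300000)) (.node (.leaf 0x7000010000300000) (.leaf 0x110003300000000020000000000000000000000000000000000500001))) (.node (.node (.leaf 0x10000100001000030000500007000090000a00007000010000000004000010000400000000050000200002) (.leaf 0x150002b00000000020000000000000000000000001000040000400001)) (.node (.leaf 0x70001a00000000020000100000000020000800008000020000200002) (.leaf 0))))) (.node (.node (.node (.node (.leaf 0x1000000000200000) (.leaf 0x160002000000000020000100002000020000900009000040000200002)) (.node (.leaf 0x20001000001000010000000002000020000000001000060000100002)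 (.leaf 0x300001200000000020000000000000000000000000000060000000001))) (.node (.node (.leaf 0x5000040000400000) (.leaf 0x2300025000190001f00021000190001c000280002600002000070000000007000010000a00004000070000000002)) (.node (.leaf 0x9000160001800002000010000100002000040000700003000080000500002) (.leaf 0)))) (.node (.node (.node (.leaf 0x3000020000100000) (.leaf 0xb0000a0000300000)) (.node (.leaf 0xb0000e0001400002000010000100002000040000100004000070000500002) (.leaf 0))) (.node (.node (.leaf 0x20000c00000000020000100001000020000500005000010000500002) (.leaf 0x2c0000b00000000020000000000000000000000001000050000000001)) (.node (.leaf 0x9000080000300000) (.leaf 0))))))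

/-- the facts -/
def facts : Trie :=
  facts0

/-- part of the final cosets -/
def fin0 : Trie :=
  (.node (.leaf 0x0) (.leaf 0))

/-- the final cosets -/
def fin : Trie :=
  fin0

/-- the inverse of a letter -/
def ivl (l : ℕ) : ℕ := ([1, 0, 3, 2, 5, 4] : List ℕ).getD l l

/-- the certificate -/
def cert : TC.Cert :=
  ⟨6, ivl, nodes, facts, [[2, 2, 2, 2, 2, 2, 2], [1, 3, 0, 3, 3, 1, 2, 2, 2], [0, 0, 5], [5, 1, 4, 0], [5, 3, 4, 2]], [[2]], fin, 0⟩

/-- the number of facts -/
def numFacts : ℕ := 27

/-- the path of target 0 -/
def path0 : List ℕ := [52]

end

end Cfsg.Agent.ThMult.PTable
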