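import Cfsg.Agent.Lib.Th.Base
import Cfsg.Prelude.Def_Spor_Th

/-!
The thirty-nine relations of the presented Thompson group as a property of eight elements, and the map to it
from the group presented by `a, b, c, d, e, s, t`.
-/

set_option autoImplicit false
set_option maxRecDepth 100000

namespace Cfsg.Agent.ThMult

open Cfsg.Agent.HN Cfsg.Spor

variable {G : Type*} [Group G]

/-- The relations of the groups 1, 2, 3. -/
structure RelH (a b c d e s t : G) : Prop where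
  aa : a ^ 2 = 1
  bb : b ^ 2 = 1
  cc : c ^ 2 = 1
  dd : d ^ 2 = 1
  ee : e ^ 2 = 1
  ab : (a * b) ^ 3 = 1
  ae : (a * e) ^ 2 = 1
  bc : (b * c) ^ 3 = 1
  bd : (b * d) ^ 2 = 1
  be : (b * e) ^ 2 = 1
  acd : a * ((c * d) ^ 4)⁻¹ = 1
  ce : (c * e) ^ 2 = 1
  de : (d * e) ^ 3 = 1
  nu : (b * c * d * e) ^ 8 = 1
  ss : s ^ 7 = 1
  sa : s⁻¹ * a⁻¹ * s * a = 1
  sb : s⁻¹ * b⁻¹ * s * b = 1
  sc : s⁻¹ * c⁻¹ * s * c = 1
  sd : (s * d) ^ 2 = 1
  es : (e⁻¹ * s⁻¹ * e * s) * ((s ^ 3)⁻¹ * e * s ^ 3)⁻¹ = 1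
  tt : t ^ 3 = 1
  ta : t⁻¹ * a⁻¹ * t * a = 1
  tb : t⁻¹ * b⁻¹ * t * b = 1
  tc : t⁻¹ * c⁻¹ * t * c = 1
  td : t⁻¹ * d⁻¹ * t * d = 1
  te : t⁻¹ * e⁻¹ * t * e = 1
  st : t⁻¹ * s * t * (s ^ 2)⁻¹ = 1

/-- The relations of the groups 4, 5, 6. -/
structure RelU (a b c d e s t u : G) : Prop where
  uu : u ^ 2 * (a * c)⁻¹ = 1
  ua : u⁻¹ * a⁻¹ * u * a = 1
  uc : u⁻¹ * c⁻¹ * u * c = 1
  ue : u⁻¹ * e⁻¹ * u * e = 1
  xi : (d * e * (u⁻¹ * d * u)) ^ 2 = 1
  delta : (u⁻¹ * (b⁻¹ * (a * c) * b)⁻¹ * u * (b⁻¹ * (a * c) * b)) * e⁻¹ = 1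
  mixed : ((d⁻¹ * u * d)⁻¹ * (b⁻¹ * (a * c) * b)⁻¹ * (d⁻¹ * u * d) * (b⁻¹ * (a * c) * b)) *
    (u * e * (b⁻¹ * (a * c) * b) * (d⁻¹ * u * d) * e * c)⁻¹ = 1
  tu : (u⁻¹ * t * u) * (t⁻¹)⁻¹ = 1
  eus : e⁻¹ * ((s ^ 2)⁻¹ * u * s ^ 2)⁻¹ * e * ((s ^ 2)⁻¹ * u * s ^ 2) = 1
  us3 : a * c * ((u * s) ^ 3)⁻¹ = 1
  us4 : a * c * ((u⁻¹ * s⁻¹ * u * s) ^ 4)⁻¹ = 1
  pi : (d * ((s ^ 2)⁻¹ * u * s ^ 2)) ^ 4 *
    (a * c * (d⁻¹ * c * d) * ((d * e * s⁻¹)⁻¹ * c * (d * e * s⁻¹)) *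
      ((d * e * s ^ 2)⁻¹ * c * (d * e * s ^ 2)))⁻¹ = 1

noncomputable section

/-- A generator in the presented group. -/
abbrev gTh (x : Th.Gen) : Cfsg.Spor.Th := PresentedGroup.of x

/-- A generating map extends exactly when the relations hold. -/
theorem rel_iff (f : Th.Gen → G) :
    (∀ r ∈ Th.extra, FreeGroup.lift f r = 1) ↔
      RelH (f .a) (f .b) (f .c) (f .d) (f .e) (f .s) (f .t) ∧
        RelU (f .a) (f .b) (f .c) (f .d) (f .e) (f .s) (f .t) (f .u) := by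
  simp only [Th.extra, Th.a, Th.b, Th.c, Th.d, Th.e, Th.s, Th.t, Th.u, List.forall_mem_cons,
    List.not_mem_nil, IsEmpty.forall_iff, forall_const, map_mul, map_inv, map_pow, FreeGroup.lift_apply_of,
    and_true]
  constructor
  · rintro ⟨h1, h2, h3, h4, h5, h6, h7, h8, h9, h10, h11, h12, h13, h14, h15, h16, h17, h18, h19, h20, h21, h22,
      h23, h24, h25, h26, h27, h28, h29, h30, h31, h32, h33, h34, h35, h36, h37, h38, h39⟩
    exact ⟨⟨h1, h2, h3, h4, h5, h6, h7, h8, h9, h10, h11, h12, h13, h14, h15, h16, h17, h18, h19, h20, h21, h22,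
      h23, h24, h25, h26, h27⟩, ⟨h28, h29, h30, h31, h32, h33, h34, h35, h36, h37, h38, h39⟩⟩
  · rintro ⟨⟨h1, h2, h3, h4, h5, h6, h7, h8, h9, h10, h11, h12, h13, h14, h15, h16, h17, h18, h19, h20, h21, h22,
      h23, h24, h25, h26, h27⟩, ⟨h28, h29, h30, h31, h32, h33, h34, h35, h36, h37, h38, h39⟩⟩
    exact ⟨h1, h2, h3, h4, h5, h6, h7, h8, h9, h10, h11, h12, h13, h14, h15, h16, h17, h18, h19, h20, h21, h22,
      h23, h24, h25, h26, h27, h28, h29, h30, h31, h32, h33, h34, h35, h36, h37, h38, h39⟩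

/-- The relations hold in the presented group. -/
theorem rel_th : RelH (gTh .a) (gTh .b) (gTh .c) (gTh .d) (gTh .e) (gTh .s) (gTh .t) ∧
    RelU (gTh .a) (gTh .b) (gTh .c) (gTh .d) (gTh .e) (gTh .s) (gTh .t) (gTh .u) := by
  refine (rel_iff gTh).1 fun r hr => ?_
  have h : FreeGroup.lift gTh = PresentedGroup.mk _ := FreeGroup.ext_hom _ _ fun x => by
    rw [FreeGroup.lift_apply_of]; rfl
  rw [h]
  exact PresentedGroup.one_of_mem (Or.inr hr)

/-- The map out of the presented group given by elements satisfying the relations. -/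
def homOfRel (f : Th.Gen → G) (h : RelH (f .a) (f .b) (f .c) (f .d) (f .e) (f .s) (f .t))
    (h' : RelU (f .a) (f .b) (f .c) (f .d) (f .e) (f .s) (f .t) (f .u)) : Cfsg.Spor.Th →* G :=
  PresentedGroup.toGroup (f := f) (by
    rintro r (⟨x, hx, -⟩ | hr)
    · simp [Cfsg.Spor.coxNodes, Th.edges] at hx
    · exact (rel_iff f).2 ⟨h, h'⟩ r hr)

theorem homOfRel_gTh (f : Th.Gen → G) (h) (h') (x : Th.Gen) : homOfRel f h h' (gTh x) = f x :=
  PresentedGroup.toGroup.of _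

/-- The nine letters of the group of `a, b, c, d, e, s, t`. -/
def lets9 (a b c d e s t : G) (l : ℕ) : G := [a, b, c, d, e, s, s⁻¹, t, t⁻¹].getD l 1

/-- The relators of the group of `a, b, c, d, e, s, t` follow from its relations. -/
theorem rel9_of_relH {a b c d e s t : G} (R : RelH a b c d e s t) :
    ∀ w ∈ Th.rel9, wv (lets9 a b c d e s t) w = 1 := by
  obtain ⟨aa, bb, cc, dd, ee, ab, ae, bc, bd, be, acd, ce, de, nu, ss, sa, sb, sc, sd, es, tt, ta, tb, tc, td,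
    te, st⟩ := R
  have i : ∀ {x : G}, x ^ 2 = 1 → x⁻¹ = x := fun h => inv_eq_of_mul_eq_one_right (by rwa [← pow_two])
  have acd' : a * ((d * c) ^ 4) = 1 := by
    have h : ((c * d) ^ 4)⁻¹ = (d * c) ^ 4 := by rw [← inv_pow, mul_inv_rev, i cc, i dd]
    rwa [h] at acd
  rw [i aa] at sa ta
  rw [i bb] at sb tb
  rw [i cc] at sc tc
  rw [i dd] at td
  rw [i ee] at es te
  simp only [Th.rel9, Th.relD, Th.relT, List.cons_append, List.nil_append, List.forall_mem_cons,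
    List.not_mem_nil, IsEmpty.forall_iff, forall_const, and_true, wv, lets9, List.getD_cons_succ,
    List.getD_cons_zero, mul_one]
  simp only [mul_inv_rev, inv_inv, inv_pow, pow_succ, pow_zero, one_mul, mul_assoc, i ee] at *
  grind

/-- The values on the seven free generators. -/
def gens7 (a b c d e s t : G) : Fin 7 → G := ![a, b, c, d, e, s, t]

theorem lift_fg9 (a b c d e s t : G) (w : List ℕ) :
    FreeGroup.lift (gens7 a b c d e s t) (wv Th.fg9 w) = wv (lets9 a b c d e s t) w := by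
  rw [map_wv]
  refine wv_congr _ fun l _ => ?_
  match l with
  | 0 | 1 | 2 | 3 | 4 | 5 | 6 | 7 | 8 => simp [Th.fg9, gens7, lets9]
  | _ + 9 => simp [Th.fg9, lets9]

/-- The map from the group of `a, b, c, d, e, s, t` given by elements satisfying its relations. -/
def homH {a b c d e s t : G} (R : RelH a b c d e s t) : Th.H0 →* G :=
  PresentedGroup.toGroup (f := gens7 a b c d e s t) (by
    rintro r ⟨w, hw, rfl⟩
    rw [lift_fg9]
    exact rel9_of_relH R w hw)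

theorem homH_wv {a b c d e s t : G} (R : RelH a b c d e s t) (w : List ℕ) :
    homH R (wv Th.g9 w) = wv (lets9 a b c d e s t) w := by
  rw [show wv Th.g9 w = PresentedGroup.mk Th.relSet9 (wv Th.fg9 w) from (map_wv _ _ _).symm, ← lift_fg9]
  rfl

theorem homH_g9 {a b c d e s t : G} (R : RelH a b c d e s t) (l : ℕ) :
    homH R (Th.g9 l) = lets9 a b c d e s t l := by
  simpa [wv] using homH_wv R [l]

/-- The map of the group of `a, b, c, d, e, s, t` to the presented Thompson group. -/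
def psiH : Th.H0 →* Cfsg.Spor.Th := homH rel_th.1

end

end Cfsg.Agent.ThMult
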