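import Cfsg.Agent.Lib.HN.TC

/-! the cube of u e s -/

set_option autoImplicit false
set_option maxRecDepth 100000
set_option maxHeartbeats 4000000
set_option Elab.async false

namespace Cfsg.Agent.ThMult.XTable

open Cfsg.Agent.HN

noncomputable section

open Cfsg.Agent.HN

/-- part of the tree -/
def nodes0 : Trie :=
  (.node (.node (.node (.leaf 0x0) (.leaf 0x300003)) (.node (.leaf 0x400001) (.leaf 0x400002))) (.node (.node (.leaf 0x800000) (.leaf 0x400004)) (.node (.leaf 0x800002) (.leaf 0))))

/-- the tree -/
def nodes : Trie :=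
  nodes0

/-- part of the facts -/
def facts0 : Trie :=
  (.node (.node (.node (.node (.node (.leaf 0x200000000000000000000000000000100002) (.leaf 0x4000030000400000)) (.node (.leaf 0xa000030000a00002000010000000002000150000000001000010000200002) (.leaf 0x2e0001e00000000020000000000000000000000004000030000000001))) (.node (.node (.leaf 0x200000000050000000000000000000700002) (.leaf 0x24000160000d00007000070000500006000060000c00017000240000a000010000000005000190000200006000060000400002)) (.node (.leaf 0x160000f0001600002000010000000002000050000100002000020000100002) (.leaf 0)))) (.node (.node (.node (.leaf 0x200000000030000000000000000000400002) (.leaf 0x6000020000500000)) (.node (.leaf 0xa000090000a00002000010000000002000180000000001000010000700002) (.leaf 0))) (.node (.node (.leaf 0x3000010000a00002000010000000000000130000000000000010000900002) (.leaf 0x170002500022000200001f000170002b000250002900002000070000000000000080000600001000050000000002)) (.node (.leaf 0x3000020000900000) (.leaf 0))))) (.node (.node (.node (.node (.leaf 0x200000000010000000000000000000200002)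 (.leaf 0x5000040000500000)) (.node (.leaf 0xa000050000a00002000010000000002000160000000001000010000400002) (.leaf 0x210003000000000020000000000000000000000003000030000400001))) (.node (.node (.leaf 0x1000000000900000) (.leaf 0x260002600029000010000200000000030000d0000600002000020000400002)) (.node (.leaf 0x16000110001600002000010000000002000060000100002000020000200002) (.leaf 0)))) (.node (.node (.node (.leaf 0x200000000040000000000000000000500002) (.leaf 0x16000150001700024000030000100001000010000e0000200002000060000800002)) (.node (.leaf 0x2000010000500000) (.leaf 0))) (.node (.node (.leaf 0xa000010000a00002000010000000002000140000000001000010000100002) (.leaf 0x230002d00000000020000000000000000000000004000010000600001)) (.node (.leaf 0xd000070000b000170001b000190001c000060000100001000000001a0000200001000030000500002) (.leaf 0))))))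

/-- the facts -/
def facts : Trie :=
  facts0

/-- part of the final cosets -/
def fin0 : Trie :=
  (.node (.leaf 0x0) (.leaf 0))

/-- the final cosets -/
def fin : Trie :=
  fin0

/-- the inverse of a letter -/
def ivl (l : ℕ) : ℕ := ([0, 1, 2, 3, 5, 4, 7, 6, 9, 8] : List ℕ).getD l l

/-- the certificate -/
def cert : TC.Cert :=
  ⟨10, ivl, nodes, facts, [[0, 3, 0, 3], [0, 2, 1, 2, 1, 2, 1, 2, 1], [1, 3, 1, 3], [2, 3, 2, 3, 2, 3], [4, 4, 4, 4, 4, 4, 4], [5, 0, 4, 0], [5, 1, 4, 1], [4, 2, 4, 2], [3, 5, 3, 5, 5, 3, 4, 4, 4], [6, 6, 6], [7, 0, 6, 0], [7, 1, 6, 1], [7, 2, 6, 2], [7, 3, 6, 3], [7, 4, 6, 5, 5], [], [], [], [], [8, 8, 1, 0], [9, 0, 8, 0], [9, 1, 8, 1], [9, 3, 8, 3], [2, 3, 9, 2, 8, 2, 3, 9, 2, 8], [9, 6, 8, 6], [3, 5, 5, 9, 4, 4, 3, 5, 5, 8, 4, 4], [0, 1, 5, 9, 5, 9, 5, 9], [0, 1, 5, 9, 4, 8, 5, 9, 4, 8, 5, 9, 4, 8, 5, 9, 4, 8], [2, 5, 5, 8, 4, 4, 2, 5, 5, 8, 4, 4, 2, 5, 5, 8, 4, 4, 2, 5, 5, 8, 3, 2, 1, 2, 3, 4, 4, 4, 3, 2, 1, 2, 3, 5, 2, 1, 2, 1, 0]], [[0], [1], [2], [3], [4], [6]], fin, 0⟩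

/-- the number of facts -/
def numFacts : ℕ := 26

/-- the path of target 0 -/
def path0 : List ℕ := [10, 19, 22, 28, 51, 30, 12, 5, 6, 3, 1]

end

end Cfsg.Agent.ThMult.XTable
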